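import Cfsg.Agent.Helper3.M23W.Data1
import Cfsg.Agent.Helper1.Gaschutz
import Cfsg.Agent.S0376

set_option autoImplicit false

/-!
A group mapping onto the point stabilizer with an elementary abelian kernel of order a power of two
splits over the kernel as soon as the generators of a subgroup of order 128 have lifts satisfying
the relators of the subgroup.
-/

namespace Cfsg.Agent.Helper3.M23W

open Cfsg Cfsg.Agent.Helper9.Golay Cfsg.Agent.Helper3.M23Ext Subgroup

/-- the relators contain the squares of the generators. -/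
theorem sqChk : (List.range 7).all (fun k => RWl.contains [(k, true), (k, true)]) = true := by
  decide +kernel

/-- the word is a relator expressing the conjugate of the generator `l` by the generator `k`. -/
def conjRel (k l : ℕ) (w : Word) : Bool :=
  match w with
  | a :: b :: c :: w' => a == (k, false) && b == (l, true) && c == (k, true) &&
      w'.all (fun m => decide (k < m.1) && decide (m.1 ≤ 6))
  | _ => false

theorem conjChk : (List.range 7).all (fun k => (List.range 7).all (fun l =>
    decide (l ≤ k) || RWl.any (conjRel k l))) = true := by decide +kernel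

theorem conjRel_spec {k l : ℕ} {w : Word} (h : conjRel k l w = true) :
    ∃ w', w = (k, false) :: (l, true) :: (k, true) :: w' ∧ ∀ m ∈ w', k < m.1 ∧ m.1 ≤ 6 := by
  match w, h with
  | a :: b :: c :: w', h =>
    simp only [conjRel] at h
    rw [Bool.and_eq_true, Bool.and_eq_true, Bool.and_eq_true, beq_iff_eq, beq_iff_eq, beq_iff_eq,
      List.all_eq_true] at h
    obtain ⟨⟨⟨ha, hb⟩, hc⟩, hw⟩ := h
    refine ⟨w', by rw [ha, hb, hc], ?_⟩
    intro m hm
    have := hw m hm
    rw [Bool.and_eq_true, decide_eq_true_eq, decide_eq_true_eq] at this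
    exact this
  | [], h => simp [conjRel] at h
  | [_], h => simp [conjRel] at h
  | [_, _], h => simp [conjRel] at h

/-- the chain of subgroups generated by lifts satisfying the relators. -/
theorem good_chainR {E : Type*} [Group E] [Finite E] {P : Type*} [Group P] (π : E →* P)
    (x : ℕ → E) (hrel : ∀ w ∈ RWl, evalW x w = 1)
    (hnot : ∀ n < 7, π (x (6 - n)) ∉ chainR (fun k => π (x k)) n) :
    ∀ n ≤ 7, Good π (chainR x n) n := by
  have hsq : ∀ k < 7, x k * x k = 1 := by
    intro k hk
    have h := List.all_eq_true.1 sqChk k (List.mem_range.2 hk)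
    rw [List.contains_iff_mem] at h
    have := hrel _ h
    simpa [evalW, evalL] using this
  have hconj : ∀ k l, k < l → l ≤ 6 → x k * x l * (x k)⁻¹ ∈ chainR x (6 - k) := by
    intro k l hkl hl
    have h := List.all_eq_true.1 (List.all_eq_true.1 conjChk k (List.mem_range.2 (by omega))) l
      (List.mem_range.2 (by omega))
    rw [Bool.or_eq_true, decide_eq_true_eq, List.any_eq_true] at h
    rcases h with h | ⟨w, hw, hc⟩
    · omega
    · obtain ⟨w', rfl, hw'⟩ := conjRel_spec hc
      have h1 := hrel _ hw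
      have h2 : (x k)⁻¹ * (x l * (x k * evalW x w')) = 1 := by simpa [evalW, evalL] using h1
      have hk2 := hsq k (by omega)
      have hki : (x k)⁻¹ = x k := inv_eq_of_mul_eq_one_left hk2
      have h3 : x k * x l * (x k)⁻¹ = (evalW x w')⁻¹ := by
        rw [hki] at h2 ⊢
        apply eq_inv_of_mul_eq_one_left
        simpa only [mul_assoc] using h2
      rw [h3]
      apply inv_mem
      apply evalW_mem
      intro m hm
      have h4 := hw' m hm
      exact mem_chainR (6 - k) m.1 (by omega) h4.2
  intro n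
  induction n with
  | zero =>
    intro _
    exact good_bot π
  | succ n ih =>
    intro hn
    have hk : 6 - n < 7 := by omega
    refine (ih (by omega)).step π ?_ (hsq _ hk) ?_
    · have hle : chainR x n ≤ (chainR x n).comap (MulAut.conj (x (6 - n))).toMonoidHom := by
        apply chainR_le
        intro l h1 h2
        show x (6 - n) * x l * (x (6 - n))⁻¹ ∈ chainR x n
        have h3 := hconj (6 - n) l (by omega) h2
        have e : 6 - (6 - n) = n := by omega
        rwa [e] at h3
      intro r hr
      exact hle hr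
    · rw [map_chainR]
      exact hnot n (by omega)

theorem Gp_not_mem : ∀ n < 7, Gp (6 - n) ∉ chainR Gp n
  | 0, _ => by
    show pe1 ∉ (⊥ : Subgroup (Equiv.Perm GolayPt))
    rw [mem_bot]
    exact pe1_ne_one
  | 1, _ => pe2_not_mem_V1
  | 2, _ => pe3_not_mem_V2
  | 3, _ => pe4_not_mem_V3
  | 4, _ => pa_not_mem_Vg
  | 5, _ => pb_not_mem_Vga
  | 6, _ => ps_not_mem_Vgab
  | n + 7, h => by omega

theorem card_M23 : Nat.card ↥Cfsg.Spor.M23 = 10200960 := by
  rw [← Cfsg.Agent.S0376.result none]
  apply Nat.card_congr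
  exact ⟨fun x => ⟨⟨x.1, (Subgroup.mem_inf.1 x.2).1⟩, (Subgroup.mem_inf.1 x.2).2⟩,
    fun x => ⟨x.1.1, Subgroup.mem_inf.2 ⟨x.1.2, x.2⟩⟩, fun _ => rfl, fun _ => rfl⟩

/-- the splitting of a group over an elementary abelian kernel, from lifts of the generators
satisfying the relators. -/
theorem split_of_rel {E : Type*} [Group E] [Finite E] (π : E →* Equiv.Perm GolayPt)
    (hrange : π.range = Spor.M23)
    (hab : ∀ a ∈ π.ker, ∀ b ∈ π.ker, a * b = b * a) (h2 : ∀ a ∈ π.ker, a * a = 1)
    (x : ℕ → E) (hx : ∀ k, π (x k) = Gp k) (hrel : ∀ w ∈ RWl, evalW x w = 1) :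
    ∃ H : Subgroup E, H ⊓ π.ker = ⊥ ∧ H ⊔ π.ker = ⊤ := by
  have hπx : (fun k => π (x k)) = Gp := funext hx
  have gP : Good π (chainR x 7) 7 := by
    refine good_chainR π x hrel ?_ 7 le_rfl
    intro n hn
    rw [hπx, hx]
    exact Gp_not_mem n hn
  have hc : IsMulCommutative π.ker := ⟨⟨fun a b => Subtype.ext (hab a a.2 b b.2)⟩⟩
  have hPN : chainR x 7 ⊓ π.ker = ⊥ := by
    rw [eq_bot_iff]
    rintro y ⟨hyP, hyN⟩
    exact mem_bot.2 (gP.disj y hyP (MonoidHom.mem_ker.1 hyN))
  have hp : IsPGroup 2 π.ker := by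
    intro y
    refine ⟨1, ?_⟩
    rw [pow_one, pow_two]
    exact Subtype.ext (h2 y y.2)
  have : Fact (Nat.Prime 2) := ⟨Nat.prime_two⟩
  obtain ⟨k, hk⟩ := hp.exists_card_eq
  have hidx : π.ker.index = 10200960 := by
    rw [Subgroup.index_ker, hrange, card_M23]
  have hrelI : π.ker.relIndex (π.ker ⊔ chainR x 7) = 128 := by
    rw [Subgroup.relIndex_sup_left, ← Subgroup.inf_relIndex_left, hPN, Subgroup.relIndex_bot_left,
      gP.card]
    norm_num
  have hU : (π.ker ⊔ chainR x 7).index = 79695 := by
    have h := Subgroup.relIndex_mul_index (le_sup_left : π.ker ≤ π.ker ⊔ chainR x 7)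
    rw [hrelI, hidx] at h
    omega
  have hcop : (Nat.card π.ker).Coprime (π.ker ⊔ chainR x 7).index := by
    rw [hk, hU]
    exact Nat.Coprime.pow_left k (by norm_num)
  obtain ⟨H, hH⟩ := Cfsg.Agent.Helper1.gaschutz_exists π.ker (π.ker ⊔ chainR x 7) hcop
    (chainR x 7) hPN rfl
  refine ⟨H, ?_, ?_⟩
  · rw [inf_comm]
    exact hH.disjoint.eq_bot
  · rw [sup_comm]
    exact hH.sup_eq_top

end Cfsg.Agent.Helper3.M23W
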