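import Cfsg.Agent.Helper3.M23W.Core
import Cfsg.Agent.Helper3.M23W.Chain

set_option autoImplicit false

/-!
Extensions of the point stabilizer of the group of the code by the quotient of the binary words by
the code and the unit vector at the extra point: a nonsplit extension has lifts of the generators
of a subgroup of order 128 with prescribed masks of the relators, and two nonsplit extensions are
isomorphic.
-/

namespace Cfsg.Agent.Helper3.M23W

open Cfsg Cfsg.Agent.Helper9.Golay Cfsg.Agent.Helper3.M23Ext Cfsg.Agent.Helper3.Pk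

/-- the words mapped to the identity. -/
def kerV (w : V) : Prop := w ∈ golayCode ∨ w + Pi.single none 1 ∈ golayCode

theorem synV_eq_zero_iff_kerV (w : V) : synV w = 0 ↔ kerV w := by
  rw [synV_eq_zero_iff]
  constructor
  · exact mem_or_of_dotv
  · rintro (h | h) k
    · exact dotv_code_bs h k
    · have e : w = (w + Pi.single none 1) + Pi.single none 1 := by
        funext q
        simp only [Pi.add_apply]
        have b := z2_add_self ((Pi.single none 1 : V) q)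
        linear_combination (-1 : ZMod 2) * b
      rw [e, dotv_add_left, dotv_code_bs h k, dotv_single_none, bs_none, add_zero]

theorem kerV_zero : kerV 0 := Or.inl golayCode.zero_mem

theorem add_self_V (w : V) : w + w = 0 := by
  funext q
  exact z2_add_self (w q)

theorem ptSyn_pv : ∀ k : Fin 11, ptSyn (ptIdx (pv k)) = 2 ^ k.val := by decide +kernel

theorem exists_synV_aux : ∀ n ≤ 11, ∀ m < 2 ^ n, ∃ w : V, synV w = m := by
  intro n
  induction n with
  | zero =>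
    intro _ m hm
    refine ⟨0, ?_⟩
    rw [synV_zero]
    omega
  | succ n ih =>
    intro hn m hm
    by_cases hb : m.testBit n = true
    · have hlt : m ^^^ 2 ^ n < 2 ^ n := by
        apply Nat.lt_pow_two_of_testBit
        intro i hi
        rw [Nat.testBit_xor, Nat.testBit_two_pow]
        by_cases h : n = i
        · rw [← h, hb]
          simp
        · have h1 : m.testBit i = false :=
            Nat.testBit_lt_two_pow (lt_of_lt_of_le hm (Nat.pow_le_pow_right (by norm_num) (by omega)))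
          rw [h1]
          simp [h]
      obtain ⟨w, hw⟩ := ih (by omega) _ hlt
      refine ⟨w + Pi.single (pv ⟨n, by omega⟩) 1, ?_⟩
      rw [synV_add, synV_single, ptSyn_pv, hw, Nat.xor_assoc, Nat.xor_self, Nat.xor_zero]
    · have hlt : m < 2 ^ n := by
        apply Nat.lt_pow_two_of_testBit
        intro i hi
        by_cases h : n = i
        · rw [← h]
          simpa using hb
        · exact Nat.testBit_lt_two_pow
            (lt_of_lt_of_le hm (Nat.pow_le_pow_right (by norm_num) (by omega)))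
      exact ih (by omega) m hlt

theorem exists_synV {m : ℕ} (hm : m < 2048) : ∃ w : V, synV w = m :=
  exists_synV_aux 11 le_rfl m (lt_of_lt_of_eq hm (by norm_num))

/-- an extension of the point stabilizer by the quotient of the binary words. -/
structure ExtV (E : Type*) [Group E] where
  N : Subgroup E
  nN : N.Normal
  π : E →* Equiv.Perm GolayPt
  mem_N : ∀ x, x ∈ N ↔ π x = 1
  lift : ∀ g ∈ Spor.M23, ∃ x, π x = g
  π_mem : ∀ x, π x ∈ Spor.M23
  θ : V → E
  θ_mem : ∀ w, θ w ∈ N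
  θ_add : ∀ w w', θ (w + w') = θ w * θ w'
  θ_surj : ∀ n ∈ N, ∃ w, θ w = n
  θ_ker : ∀ w, θ w = 1 ↔ kerV w
  θ_conj : ∀ (g : E) (w : V), θ (w ∘ ⇑(π g)⁻¹) = g * θ w * g⁻¹

namespace ExtV

variable {E : Type*} [Group E] (D : ExtV E)

theorem θ_zero : D.θ 0 = 1 := (D.θ_ker 0).2 kerV_zero

theorem θ_sq (w : V) : D.θ w * D.θ w = 1 := by
  rw [← D.θ_add, add_self_V, D.θ_zero]

theorem θ_inv (w : V) : (D.θ w)⁻¹ = D.θ w := inv_eq_of_mul_eq_one_left (D.θ_sq w)

theorem θ_eq_iff (w w' : V) : D.θ w = D.θ w' ↔ kerV (w + w') := by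
  rw [← D.θ_ker, D.θ_add]
  constructor
  · intro h
    rw [h, D.θ_sq]
  · intro h
    have := eq_inv_of_mul_eq_one_left h
    rw [this, D.θ_inv]

theorem π_θ (w : V) : D.π (D.θ w) = 1 := (D.mem_N _).1 (D.θ_mem w)

theorem sq_N {a : E} (ha : a ∈ D.N) : a * a = 1 := by
  obtain ⟨w, rfl⟩ := D.θ_surj a ha
  exact D.θ_sq w

theorem comm_N {a b : E} (ha : a ∈ D.N) (hb : b ∈ D.N) : a * b = b * a := by
  obtain ⟨w, rfl⟩ := D.θ_surj a ha
  obtain ⟨w', rfl⟩ := D.θ_surj b hb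
  rw [← D.θ_add, ← D.θ_add, add_comm]

theorem ker_eq : D.π.ker = D.N := by
  ext x
  rw [MonoidHom.mem_ker, D.mem_N]

theorem range_eq : D.π.range = Spor.M23 := by
  ext g
  constructor
  · rintro ⟨x, rfl⟩
    exact D.π_mem x
  · intro hg
    obtain ⟨x, hx⟩ := D.lift g hg
    exact ⟨x, hx⟩

open Classical in
/-- the mask of an element of the kernel. -/
noncomputable def Ψ (x : E) : ℕ := if h : x ∈ D.N then synV (Classical.choose (D.θ_surj x h)) else 0

theorem Ψ_θ (w : V) : D.Ψ (D.θ w) = synV w := by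
  unfold Ψ
  rw [dif_pos (D.θ_mem w)]
  have h := Classical.choose_spec (D.θ_surj (D.θ w) (D.θ_mem w))
  rw [D.θ_eq_iff, ← synV_eq_zero_iff_kerV, synV_add, Nat.xor_eq_zero_iff] at h
  exact h

/-- the extension in terms of masks. -/
noncomputable def toExtW : ExtW E where
  N := D.N
  nN := D.nN
  π := D.π
  Ψ := D.Ψ
  mem_N := D.mem_N
  lift := D.lift
  Ψ_mul := by
    intro x hx y hy
    obtain ⟨w, rfl⟩ := D.θ_surj x hx
    obtain ⟨w', rfl⟩ := D.θ_surj y hy
    rw [← D.θ_add, D.Ψ_θ, D.Ψ_θ, D.Ψ_θ, synV_add]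
  Ψ_conj := by
    intro g x t M hx ht hM
    obtain ⟨w, rfl⟩ := D.θ_surj x hx
    rw [← D.θ_conj, D.Ψ_θ, D.Ψ_θ]
    exact synV_comp ht hM w
  Ψ_inj := by
    intro x hx h
    obtain ⟨w, rfl⟩ := D.θ_surj x hx
    rw [D.Ψ_θ, synV_eq_zero_iff_kerV] at h
    exact (D.θ_ker w).2 h
  Ψ_lt := by
    intro x hx
    obtain ⟨w, rfl⟩ := D.θ_surj x hx
    rw [D.Ψ_θ]
    exact synV_lt w
  Ψ_surj := by
    intro m hm
    obtain ⟨w, hw⟩ := exists_synV hm
    exact ⟨D.θ w, D.θ_mem w, by rw [D.Ψ_θ, hw]⟩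

theorem RW_of_mem {w : Word} (hw : w ∈ RWl) : ∃ r < 28, RW r = w := by
  obtain ⟨r, hr, e⟩ := List.getElem_of_mem hw
  refine ⟨r, hr, ?_⟩
  unfold RW
  rw [List.getD_eq_getElem _ _ hr]
  exact e

/-- in a nonsplit extension the generators have lifts with prescribed masks of the relators. -/
theorem exists_lifts_of_nonsplit [Finite E]
    (hns : ∀ H : Subgroup E, H ⊓ D.N = ⊥ → H ⊔ D.N ≠ ⊤) :
    ∃ x : ℕ → E, (∀ k, D.π (x k) = Gp k) ∧
      ∀ r < 28, evalW x (RW r) ∈ D.N ∧ D.Ψ (evalW x (RW r)) = applyM (TCm r) 1 := by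
  obtain ⟨x, e, he, hx, hrel⟩ := D.toExtW.exists_normal_lifts
  have he' : e = 0 ∨ e = 1 := by omega
  rcases he' with he' | he'
  · exfalso
    have hrel1 : ∀ w ∈ RWl, evalW x w = 1 := by
      intro w hw
      obtain ⟨r, hr, rfl⟩ := RW_of_mem hw
      obtain ⟨h1, h2⟩ := hrel r hr
      rw [he', applyM_zero] at h2
      exact D.toExtW.Ψ_inj _ h1 h2
    obtain ⟨H, hH1, hH2⟩ := split_of_rel D.π D.range_eq
      (fun a ha b hb => D.comm_N (by rwa [← D.ker_eq]) (by rwa [← D.ker_eq]))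
      (fun a ha => D.sq_N (by rwa [← D.ker_eq])) x hx hrel1
    rw [D.ker_eq] at hH1 hH2
    exact hns H hH1 hH2
  · rw [he'] at hrel
    exact ⟨x, hx, hrel⟩

end ExtV

section Pair

variable {E : Type*} [Group E] {E' : Type*} [Group E'] (D : ExtV E) (D' : ExtV E')

/-- the pairs of elements with the same image in the point stabilizer. -/
def fib : Subgroup (E × E') where
  carrier := {p | D.π p.1 = D'.π p.2}
  one_mem' := by
    show D.π (1 : E × E').1 = D'.π (1 : E × E').2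
    rw [Prod.fst_one, Prod.snd_one, map_one, map_one]
  mul_mem' := by
    intro a b ha hb
    have ha' : D.π a.1 = D'.π a.2 := ha
    have hb' : D.π b.1 = D'.π b.2 := hb
    show D.π (a * b).1 = D'.π (a * b).2
    rw [Prod.fst_mul, Prod.snd_mul, map_mul, map_mul, ha', hb']
  inv_mem' := by
    intro a ha
    have ha' : D.π a.1 = D'.π a.2 := ha
    show D.π (a⁻¹).1 = D'.π (a⁻¹).2
    rw [Prod.fst_inv, Prod.snd_inv, map_inv, map_inv, ha']

theorem fib_spec (a : ↥(fib D D')) : D.π a.1.1 = D'.π a.1.2 := a.2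

/-- the pairs of images of the same word. -/
def diag : Subgroup ↥(fib D D') where
  carrier := {p | ∃ w, D.θ w = p.1.1 ∧ D'.θ w = p.1.2}
  one_mem' := ⟨0, D.θ_zero, D'.θ_zero⟩
  mul_mem' := by
    rintro a b ⟨w, h1, h2⟩ ⟨w', h1', h2'⟩
    refine ⟨w + w', ?_, ?_⟩
    · rw [D.θ_add, h1, h1']
      rfl
    · rw [D'.θ_add, h2, h2']
      rfl
  inv_mem' := by
    rintro a ⟨w, h1, h2⟩
    refine ⟨w, ?_, ?_⟩
    · show D.θ w = (a.1.1)⁻¹
      rw [← h1, D.θ_inv]
    · show D'.θ w = (a.1.2)⁻¹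
      rw [← h2, D'.θ_inv]

theorem mem_diag (a : ↥(fib D D')) : a ∈ diag D D' ↔ ∃ w, D.θ w = a.1.1 ∧ D'.θ w = a.1.2 :=
  Iff.rfl

instance diag_normal : (diag D D').Normal := ⟨by
  rintro a ⟨w, h1, h2⟩ g
  refine ⟨w ∘ ⇑(D.π g.1.1)⁻¹, ?_, ?_⟩
  · rw [D.θ_conj, h1]
    rfl
  · rw [fib_spec D D' g, D'.θ_conj, h2]
    rfl⟩

/-- the pair of the images of a word. -/
def dEl (w : V) : ↥(fib D D') := ⟨(D.θ w, D'.θ w), by
  show D.π (D.θ w) = D'.π (D'.θ w)
  rw [D.π_θ, D'.π_θ]⟩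

theorem dEl_mem (w : V) : dEl D D' w ∈ diag D D' := ⟨w, rfl, rfl⟩

/-- two extensions with lifts of the generators having the same relators are isomorphic. -/
theorem pair_iso [Finite E] [Finite E'] (x : ℕ → E) (x' : ℕ → E')
    (hx : ∀ k, D.π (x k) = Gp k) (hx' : ∀ k, D'.π (x' k) = Gp k)
    (hrel : ∀ w ∈ RWl, ∃ v : V, D.θ v = evalW x w ∧ D'.θ v = evalW x' w) :
    Nonempty (E ≃* E') := by
  let πF : ↥(fib D D') →* Equiv.Perm GolayPt :=
    D.π.comp ((MonoidHom.fst E E').comp (fib D D').subtype)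
  have hπF : ∀ a : ↥(fib D D'), πF a = D.π a.1.1 := fun _ => rfl
  have hΔ : diag D D' ≤ πF.ker := by
    rintro a ⟨w, h1, _⟩
    rw [MonoidHom.mem_ker, hπF, ← h1, D.π_θ]
  let πq : ↥(fib D D') ⧸ diag D D' →* Equiv.Perm GolayPt := QuotientGroup.lift (diag D D') πF hΔ
  have hπq : ∀ a : ↥(fib D D'), πq (QuotientGroup.mk a) = D.π a.1.1 := fun _ => rfl
  have hπq' : ∀ a : ↥(fib D D'), πq (QuotientGroup.mk a) = D'.π a.1.2 := fun a => by
    rw [hπq, fib_spec]
  have hrange : πq.range = Spor.M23 := by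
    ext g
    constructor
    · rintro ⟨q, rfl⟩
      obtain ⟨a, rfl⟩ := QuotientGroup.mk_surjective q
      rw [hπq]
      exact D.π_mem _
    · intro hg
      obtain ⟨a, ha⟩ := D.lift g hg
      obtain ⟨b, hb⟩ := D'.lift g hg
      have hab : (a, b) ∈ fib D D' := by
        show D.π a = D'.π b
        rw [ha, hb]
      exact ⟨QuotientGroup.mk ⟨(a, b), hab⟩, by rw [hπq]; exact ha⟩
  have hker : ∀ q ∈ πq.ker, ∃ a : ↥(fib D D'),
      (QuotientGroup.mk a : ↥(fib D D') ⧸ diag D D') = q ∧ a.1.1 ∈ D.N ∧ a.1.2 ∈ D'.N := by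
    intro q hq
    obtain ⟨a, rfl⟩ := QuotientGroup.mk_surjective q
    have hq1 := hq
    rw [MonoidHom.mem_ker, hπq] at hq
    rw [MonoidHom.mem_ker, hπq'] at hq1
    exact ⟨a, rfl, (D.mem_N _).2 hq, (D'.mem_N _).2 hq1⟩
  have hab : ∀ p ∈ πq.ker, ∀ q ∈ πq.ker, p * q = q * p := by
    intro p hp q hq
    obtain ⟨a, rfl, ha1, ha2⟩ := hker p hp
    obtain ⟨b, rfl, hb1, hb2⟩ := hker q hq
    rw [← QuotientGroup.mk_mul, ← QuotientGroup.mk_mul]
    congr 1
    apply Subtype.ext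
    apply Prod.ext
    · exact D.comm_N ha1 hb1
    · exact D'.comm_N ha2 hb2
  have h2 : ∀ p ∈ πq.ker, p * p = 1 := by
    intro p hp
    obtain ⟨a, rfl, ha1, ha2⟩ := hker p hp
    rw [← QuotientGroup.mk_mul, ← QuotientGroup.mk_one]
    congr 1
    apply Subtype.ext
    apply Prod.ext
    · exact D.sq_N ha1
    · exact D'.sq_N ha2
  have hxF : ∀ k, (x k, x' k) ∈ fib D D' := by
    intro k
    show D.π (x k) = D'.π (x' k)
    rw [hx, hx']
  let xF : ℕ → ↥(fib D D') := fun k => ⟨(x k, x' k), hxF k⟩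
  let xq : ℕ → ↥(fib D D') ⧸ diag D D' := fun k => QuotientGroup.mk (xF k)
  have hxq : ∀ k, πq (xq k) = Gp k := fun k => hx k
  have hrelq : ∀ w ∈ RWl, evalW xq w = 1 := by
    intro w hw
    have e1 : evalW xq w = QuotientGroup.mk' (diag D D') (evalW xF w) :=
      (map_evalW (QuotientGroup.mk' (diag D D')) xF w).symm
    rw [e1, QuotientGroup.mk'_apply, QuotientGroup.eq_one_iff]
    obtain ⟨v, hv1, hv2⟩ := hrel w hw
    have f1 := map_evalW ((MonoidHom.fst E E').comp (fib D D').subtype) xF w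
    have f2 := map_evalW ((MonoidHom.snd E E').comp (fib D D').subtype) xF w
    refine ⟨v, ?_, ?_⟩
    · rw [hv1]
      exact f1.symm
    · rw [hv2]
      exact f2.symm
  obtain ⟨H, hH1, hH2⟩ := split_of_rel πq hrange hab h2 xq hxq hrelq
  let Ht : Subgroup ↥(fib D D') := H.comap (QuotientGroup.mk' (diag D D'))
  have hHt : ∀ a : ↥(fib D D'), a ∈ Ht ↔ (QuotientGroup.mk a : ↥(fib D D') ⧸ diag D D') ∈ H :=
    fun _ => Iff.rfl
  have hdEl : ∀ v, dEl D D' v ∈ Ht := by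
    intro v
    rw [hHt, (QuotientGroup.eq_one_iff _).2 (dEl_mem D D' v)]
    exact H.one_mem
  have key : ∀ a : ↥(fib D D'), a ∈ Ht → (a.1.1 = 1 ∨ a.1.2 = 1) → a = 1 := by
    intro a ha h1
    have hk : (QuotientGroup.mk a : ↥(fib D D') ⧸ diag D D') ∈ πq.ker := by
      rw [MonoidHom.mem_ker]
      rcases h1 with h1 | h1
      · rw [hπq, h1, map_one]
      · rw [hπq', h1, map_one]
    have h3 : (QuotientGroup.mk a : ↥(fib D D') ⧸ diag D D') ∈ H ⊓ πq.ker := ⟨(hHt a).1 ha, hk⟩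
    rw [hH1, Subgroup.mem_bot, QuotientGroup.eq_one_iff] at h3
    obtain ⟨v, hv1, hv2⟩ := h3
    have hkv : kerV v := by
      rcases h1 with h1 | h1
      · exact (D.θ_ker v).1 (by rw [hv1, h1])
      · exact (D'.θ_ker v).1 (by rw [hv2, h1])
    apply Subtype.ext
    apply Prod.ext
    · show a.1.1 = 1
      rw [← hv1]
      exact (D.θ_ker v).2 hkv
    · show a.1.2 = 1
      rw [← hv2]
      exact (D'.θ_ker v).2 hkv
  have hsur : ∀ g ∈ Spor.M23, ∃ h : ↥(fib D D'), h ∈ Ht ∧ D.π h.1.1 = g := by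
    intro g hg
    have hg' : g ∈ πq.range := by rw [hrange]; exact hg
    obtain ⟨q, rfl⟩ := hg'
    have hq : q ∈ ((H ⊔ πq.ker : Subgroup (↥(fib D D') ⧸ diag D D')) :
        Set (↥(fib D D') ⧸ diag D D')) := by
      rw [hH2]
      trivial
    rw [Subgroup.mul_normal] at hq
    obtain ⟨h, hh, n, hn, rfl⟩ := Set.mem_mul.1 hq
    obtain ⟨h0, rfl⟩ := QuotientGroup.mk_surjective h
    refine ⟨h0, (hHt h0).2 hh, ?_⟩
    rw [map_mul, MonoidHom.mem_ker.1 hn, mul_one, hπq]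
  let p1 : ↥Ht →* E := (MonoidHom.fst E E').comp ((fib D D').subtype.comp Ht.subtype)
  let p2 : ↥Ht →* E' := (MonoidHom.snd E E').comp ((fib D D').subtype.comp Ht.subtype)
  have hp1 : ∀ a : ↥Ht, p1 a = a.1.1.1 := fun _ => rfl
  have hp2 : ∀ a : ↥Ht, p2 a = a.1.1.2 := fun _ => rfl
  have inj1 : Function.Injective p1 := by
    rw [injective_iff_map_eq_one]
    intro a ha
    rw [hp1] at ha
    exact Subtype.ext (key a.1 a.2 (Or.inl ha))
  have inj2 : Function.Injective p2 := by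
    rw [injective_iff_map_eq_one]
    intro a ha
    rw [hp2] at ha
    exact Subtype.ext (key a.1 a.2 (Or.inr ha))
  have sur1 : Function.Surjective p1 := by
    intro a0
    obtain ⟨h0, hh0, hπ0⟩ := hsur (D.π a0) (D.π_mem a0)
    have hm : (h0.1.1)⁻¹ * a0 ∈ D.N := by
      rw [D.mem_N, map_mul, map_inv, hπ0, inv_mul_cancel]
    obtain ⟨u, hu⟩ := D.θ_surj _ hm
    refine ⟨⟨h0 * dEl D D' u, Ht.mul_mem hh0 (hdEl u)⟩, ?_⟩
    rw [hp1]
    show h0.1.1 * D.θ u = a0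
    rw [hu, mul_inv_cancel_left]
  have sur2 : Function.Surjective p2 := by
    intro b0
    obtain ⟨h0, hh0, hπ0⟩ := hsur (D'.π b0) (D'.π_mem b0)
    rw [fib_spec] at hπ0
    have hm : (h0.1.2)⁻¹ * b0 ∈ D'.N := by
      rw [D'.mem_N, map_mul, map_inv, hπ0, inv_mul_cancel]
    obtain ⟨u, hu⟩ := D'.θ_surj _ hm
    refine ⟨⟨h0 * dEl D D' u, Ht.mul_mem hh0 (hdEl u)⟩, ?_⟩
    rw [hp2]
    show h0.1.2 * D'.θ u = b0
    rw [hu, mul_inv_cancel_left]
  exact ⟨(MulEquiv.ofBijective p1 ⟨inj1, sur1⟩).symm.trans (MulEquiv.ofBijective p2 ⟨inj2, sur2⟩)⟩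

/-- two nonsplit extensions are isomorphic. -/
theorem iso_of_nonsplit [Finite E] [Finite E']
    (hns : ∀ H : Subgroup E, H ⊓ D.N = ⊥ → H ⊔ D.N ≠ ⊤)
    (hns' : ∀ H : Subgroup E', H ⊓ D'.N = ⊥ → H ⊔ D'.N ≠ ⊤) : Nonempty (E ≃* E') := by
  obtain ⟨x, hx, hrel⟩ := D.exists_lifts_of_nonsplit hns
  obtain ⟨x', hx', hrel'⟩ := D'.exists_lifts_of_nonsplit hns'
  refine pair_iso D D' x x' hx hx' ?_
  intro w hw
  obtain ⟨r, hr, rfl⟩ := ExtV.RW_of_mem hw
  obtain ⟨h1, h2⟩ := hrel r hr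
  obtain ⟨h1', h2'⟩ := hrel' r hr
  obtain ⟨v, hv⟩ := D.θ_surj _ h1
  obtain ⟨v', hv'⟩ := D'.θ_surj _ h1'
  refine ⟨v, hv, ?_⟩
  rw [← hv, D.Ψ_θ] at h2
  rw [← hv', D'.Ψ_θ, ← h2, ← Nat.xor_eq_zero_iff, ← synV_add, synV_eq_zero_iff_kerV,
    ← D'.θ_eq_iff] at h2'
  rw [← hv', h2']

end Pair

end Cfsg.Agent.Helper3.M23W
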