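import Cfsg.Agent.Helper3.M23W.Data4

set_option autoImplicit false

/-!
In an extension of the point stabilizer by the quotient of the binary words, the generators of a
subgroup of order 128 have lifts for which the masks of the relators depend on one bit only.
-/

namespace Cfsg.Agent.Helper3.M23W

open Cfsg Cfsg.Agent.Helper9.Golay Cfsg.Agent.Helper3.M23Ext

/-- the valuation of the variables. -/
def mkVal (tv : ℕ → ℕ) (nu : ℕ → ℕ → ℕ) (mu : ℕ → ℕ) (e : ℕ) (v : ℕ) : ℕ :=
  if v < 28 then tv v else if v < 56 then nu ((v - 28) / 7) ((v - 28) % 7)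
  else if v < 63 then mu (v - 56) else e

section Val

variable {tv : ℕ → ℕ} {nu : ℕ → ℕ → ℕ} {mu : ℕ → ℕ} {e : ℕ}

theorem mkVal_t {r : ℕ} (h : r < 28) : mkVal tv nu mu e r = tv r := by
  unfold mkVal
  rw [if_pos h]

theorem mkVal_nu {j k : ℕ} (hj : j < 4) (hk : k < 7) :
    mkVal tv nu mu e (28 + 7 * j + k) = nu j k := by
  unfold mkVal
  rw [if_neg (by omega), if_pos (by omega)]
  have h1 : (28 + 7 * j + k - 28) / 7 = j := by omega
  have h2 : (28 + 7 * j + k - 28) % 7 = k := by omega
  rw [h1, h2]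

theorem mkVal_mu {k : ℕ} (hk : k < 7) : mkVal tv nu mu e (56 + k) = mu k := by
  unfold mkVal
  rw [if_neg (by omega), if_neg (by omega), if_pos (by omega), Nat.add_sub_cancel_left]

theorem mkVal_e : mkVal tv nu mu e 63 = e := by
  unfold mkVal
  rw [if_neg (by omega), if_neg (by omega), if_neg (by omega)]

end Val

theorem RW_cases (r : ℕ) : RW r ∈ RWl ∨ RW r = [] := getD_mem_or RWl r []

/-- the relators hold in the point stabilizer. -/
theorem rel_one (r : ℕ) : evalW Gp (RW r) = 1 := by
  have h := isTbl_evalW tbG tbiG (RW r)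
  have h2 : tblW TG (RW r) = idT := by
    rcases RW_cases r with h1 | h1
    · have := List.all_eq_true.1 relOK _ h1
      rw [Bool.and_eq_true, beq_iff_eq] at this
      exact this.1
    · rw [h1]
      rfl
  rw [h2] at h
  exact h.eq_of_eq isTbl_one

theorem RW_letters (r : ℕ) : ∀ l ∈ RW r, l.1 < 7 := by
  intro l hl
  rcases RW_cases r with h1 | h1
  · have := List.all_eq_true.1 relOK _ h1
    rw [Bool.and_eq_true, List.all_eq_true] at this
    have h2 := this.2 l hl
    rwa [decide_eq_true_eq] at h2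
  · rw [h1] at hl
    exact absurd hl (List.not_mem_nil)

theorem Gf_cases (k : ℕ) : Gf k ∈ GfL ∨ Gf k = [] := getD_mem_or GfL k []

theorem Gf_spec (k : ℕ) : ∀ p ∈ Gf k, (∀ c ∈ p.1, c < 2 ^ 11) ∧ p.2 < 28 := by
  intro p hp
  rcases Gf_cases k with h1 | h1
  · have h2 := List.all_eq_true.1 (List.all_eq_true.1 okOK _ h1) p hp
    rw [Bool.and_eq_true, decide_eq_true_eq] at h2
    refine ⟨?_, h2.2⟩
    intro c hc
    have h3 := List.all_eq_true.1 h2.1 c hc
    rw [decide_eq_true_eq] at h3
    exact lt_of_lt_of_eq h3 (by norm_num)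
  · rw [h1] at hp
    exact absurd hp (List.not_mem_nil)

theorem kap_spec : ∀ p ∈ kap, (∀ c ∈ p.1, c < 2 ^ 1) ∧ p.2 < 28 := by
  intro p hp
  have h2 := List.all_eq_true.1 kapOK p hp
  rw [Bool.and_eq_true, decide_eq_true_eq] at h2
  refine ⟨?_, h2.2⟩
  intro c hc
  have h3 := List.all_eq_true.1 h2.1 c hc
  rw [decide_eq_true_eq] at h3
  exact lt_of_lt_of_eq h3 (by norm_num)

theorem formCR_vars {MG' : ℕ → List ℕ} {n : ℕ} :
    ∀ (L : List CR), (∀ c ∈ L, c.2.1 < n) → ∀ p ∈ formCR MG' L, p.2 < n := by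
  intro L
  induction L with
  | nil =>
    intro _ p hp
    exact absurd hp (List.not_mem_nil)
  | cons c L ih =>
    intro hc p hp
    simp only [formCR, List.mem_cons] at hp
    rcases hp with hp | hp
    · rw [hp]
      exact hc c List.mem_cons_self
    · exact ih (fun d hd => hc d (List.mem_cons_of_mem _ hd)) p hp

theorem red_chunk (val : ℕ → ℕ) (hall : ∀ f ∈ allF, evalF val f = 0) {s n : ℕ}
    (h : (List.range' s n).all redChk = true) (i : ℕ) (h1 : s ≤ i) (h2 : i < s + n) :
    evalF val (allFr.getD i []) = 0 := by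
  have hc := List.all_eq_true.1 h i (List.mem_range'_1.2 ⟨h1, h2⟩)
  unfold redChk at hc
  have h3 := evalF_eq_of_sameCoef val hc
  rw [evalF_append, evalF_append, evalF_zeroF, evalF_getD_eq_zero val allF hall i, Nat.zero_xor,
    Nat.zero_xor] at h3
  exact h3.symm

/-- the relations with collected terms hold. -/
theorem red_all (val : ℕ → ℕ) (hall : ∀ f ∈ allF, evalF val f = 0) (i : ℕ) :
    evalF val (allFr.getD i []) = 0 := by
  by_cases h : i < 160
  · have h' : i < 20 ∨ (20 ≤ i ∧ i < 40) ∨ (40 ≤ i ∧ i < 60) ∨ (60 ≤ i ∧ i < 80) ∨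
        (80 ≤ i ∧ i < 100) ∨ (100 ≤ i ∧ i < 120) ∨ (120 ≤ i ∧ i < 140) ∨ (140 ≤ i ∧ i < 160) := by
      omega
    rcases h' with h' | h' | h' | h' | h' | h' | h' | h'
    · exact red_chunk val hall redOK0 i (by omega) (by omega)
    · exact red_chunk val hall redOK1 i (by omega) (by omega)
    · exact red_chunk val hall redOK2 i (by omega) (by omega)
    · exact red_chunk val hall redOK3 i (by omega) (by omega)
    · exact red_chunk val hall redOK4 i (by omega) (by omega)
    · exact red_chunk val hall redOK5 i (by omega) (by omega)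
    · exact red_chunk val hall redOK6 i (by omega) (by omega)
    · exact red_chunk val hall redOK7 i (by omega) (by omega)
  · have h1 : allFr.getD i [] = [] := List.getD_eq_default _ _ (by have := lenOK; omega)
    rw [h1]
    rfl

namespace ExtW

variable {E : Type*} [Group E] (D : ExtW E)

theorem π_of_mem {n : E} (h : n ∈ D.N) : D.π n = 1 := (D.mem_N n).1 h

/-- the data of the extension with lifts of the generators. -/
def toCtx (y : ℕ → E) (hy : ∀ k, D.π (y k) = Gp k) : Ctx E MG where
  N := D.N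
  nN := D.nN
  Ψ := D.Ψ
  Ψ_mul := D.Ψ_mul
  Ψ_inj := D.Ψ_inj
  Ψ_lt := D.Ψ_lt
  x := y
  act := fun k n hn => D.Ψ_conj (y k) n (TG k) (MG k) hn (by rw [hy]; exact tbG k) (chkMG k)
  act' := fun k n hn => by
    have h := D.Ψ_conj (y k)⁻¹ n (TG k) (MG k) hn (by rw [map_inv, hy]; exact tbiG k) (chkMG k)
    rwa [inv_inv] at h

/-- lifts of the generators for which the masks of the relators are given by one bit. -/
theorem exists_normal_lifts :
    ∃ (x : ℕ → E) (e : ℕ), e < 2 ∧ (∀ k, D.π (x k) = Gp k) ∧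
      ∀ r < 28, evalW x (RW r) ∈ D.N ∧ D.Ψ (evalW x (RW r)) = applyM (TCm r) e := by
  classical
  choose y hy using fun k => D.lift (Gp k) (memG k)
  choose hh hhπ using fun j => D.lift (Hp j) (memH j)
  let C : Ctx E MG := D.toCtx y hy
  have hπy : (fun k => D.π (y k)) = Gp := funext hy
  have hrel : ∀ r, evalW C.x (RW r) ∈ C.N := by
    intro r
    show evalW y (RW r) ∈ D.N
    rw [D.mem_N, map_evalW, hπy]
    exact rel_one r
  let tv : ℕ → ℕ := C.tval RW
  have hGlt : ∀ k, evalF tv (Gf k) < 2048 := by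
    intro k
    have h := evalF_lt_pow (b := 11) (fun p hp => (Gf_spec k p hp).1) tv
    exact lt_of_lt_of_eq h (by norm_num)
  choose μ hμN hμΨ using fun k => D.Ψ_surj (evalF tv (Gf k)) (hGlt k)
  let e : ℕ := evalF tv kap
  have he : e < 2 := by
    have h := evalF_lt_pow (b := 1) (fun p hp => (kap_spec p hp).1) tv
    exact lt_of_lt_of_eq h (by norm_num)
  have hMat : ∀ j, C.HasMat (hh j) (Mh j) := fun j n hn =>
    D.Ψ_conj (hh j) n (Th j) (Mh j) hn (by rw [hhπ]; exact tbH j) (chkMh j)
  let νel : ℕ → ℕ → E := fun j k => hh j * evalW y (uW j k) * (hh j)⁻¹ * (y k)⁻¹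
  have hKL : ∀ j < 4, ∀ k ∈ KL j, k < 7 ∧
      mulT (mulT (mulT (Th j) (tblW TG (uW j k))) (Thi j)) (TG k) = idT := by
    intro j hj k hk
    have h2 := List.all_eq_true.1 (List.all_eq_true.1 hKOK j (List.mem_range.2 hj)) k hk
    rw [Bool.and_eq_true, beq_iff_eq, decide_eq_true_eq] at h2
    exact h2
  have hνN : ∀ j < 4, ∀ k ∈ KL j, νel j k ∈ D.N := by
    intro j hj k hk
    rw [D.mem_N]
    show D.π (hh j * evalW y (uW j k) * (hh j)⁻¹ * (y k)⁻¹) = 1
    rw [map_mul, map_mul, map_mul, map_inv, map_inv, hhπ, hy, map_evalW, hπy]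
    have h1 : IsTbl (Hp j * evalW Gp (uW j k) * (Hp j)⁻¹ * (Gp k)⁻¹)
        (mulT (mulT (mulT (Th j) (tblW TG (uW j k))) (Thi j)) (TG k)) :=
      (((tbH j).mul (isTbl_evalW tbG tbiG _)).mul (tbiH j)).mul (tbiG k)
    rw [(hKL j hj k hk).2] at h1
    exact h1.eq_of_eq isTbl_one
  let val : ℕ → ℕ := mkVal tv (fun j k => D.Ψ (νel j k)) (fun k => D.Ψ (μ k)) e
  have hvt : ∀ (f : Form), (∀ p ∈ f, p.2 < 28) → evalF val f = evalF tv f := by
    intro f hf
    apply evalF_congr_vars
    intro p hp
    exact mkVal_t (hf p hp)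
  have hall : ∀ f ∈ allF, evalF val f = 0 := by
    intro f hf
    unfold allF at hf
    rw [List.mem_append, List.mem_append, List.mem_append] at hf
    rcases hf with hf | hf | hf | hf
    · obtain ⟨p, hp, rfl⟩ := List.mem_map.1 hf
      have hc := List.all_eq_true.1 idOK p hp
      unfold idChk at hc
      rw [Bool.and_eq_true, Bool.and_eq_true, beq_iff_eq, List.all_eq_true,
        List.all_eq_true] at hc
      have h1 := C.identity RW hrel hc.2
      rw [← h1]
      apply hvt
      intro q hq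
      rw [List.mem_append] at hq
      rcases hq with hq | hq
      · exact formCR_vars p.1 (fun c hc' => by
          have := hc.1.1 c hc'
          rwa [decide_eq_true_eq] at this) q hq
      · exact formCR_vars p.2 (fun c hc' => by
          have := hc.1.2 c hc'
          rwa [decide_eq_true_eq] at this) q hq
    · obtain ⟨j, hj, hf⟩ := List.mem_flatMap.1 hf
      obtain ⟨p, hp, rfl⟩ := List.mem_map.1 hf
      have hj4 : j < 4 := List.mem_range.1 hj
      have hc := List.all_eq_true.1 (List.all_eq_true.1 stOK j hj) p hp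
      unfold stChk at hc
      rw [Bool.and_eq_true, Bool.and_eq_true, Bool.and_eq_true, beq_iff_eq, decide_eq_true_eq,
        List.all_eq_true, List.all_eq_true] at hc
      obtain ⟨⟨⟨h1, h2⟩, h3⟩, h4⟩ := hc
      refine C.stab RW hrel (hh j) (Mh j) (hMat j) (uW j) (KL j) (hνN j hj4) 28 (28 + 7 * j) val
        (fun r hr => mkVal_t hr) (fun k hk => mkVal_nu hj4 (hKL j hj4 k hk).1) p.1 ?_ h1 p.2 ?_ h4
      · intro l hl
        have := h2 l hl
        rwa [List.contains_iff_mem] at this
      · intro c hc'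
        have := h3 c hc'
        rwa [decide_eq_true_eq] at this
    · obtain ⟨k, hk, rfl⟩ := List.mem_map.1 hf
      have hk7 : k < 7 := List.mem_range.1 hk
      rw [evalF_append, hvt _ (fun p hp => (Gf_spec k p hp).2)]
      simp only [evalF]
      have h1 : val (56 + k) = D.Ψ (μ k) := mkVal_mu hk7
      rw [h1, hμΨ k, applyM_idM (hGlt k), Nat.xor_zero, Nat.xor_self]
    · rw [List.mem_singleton] at hf
      rw [hf, evalF_append, hvt _ (fun p hp => (kap_spec p hp).2)]
      simp only [evalF]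
      have h1 : val 63 = e := mkVal_e
      rw [h1, applyM_idM (lt_trans he (by norm_num)), Nat.xor_zero]
      exact Nat.xor_self _
  refine ⟨fun k => μ k * y k, e, he, ?_, ?_⟩
  · intro k
    rw [map_mul, D.π_of_mem (hμN k), one_mul, hy]
  · intro r hr
    have hval : ∀ l ∈ RW r, val (56 + l.1) = C.Ψ (μ l.1) :=
      fun l hl => mkVal_mu (RW_letters r l hl)
    obtain ⟨h1, h2⟩ := C.fox_rel RW hrel μ hμN 56 val r hval
    refine ⟨h1, ?_⟩
    have hc := List.all_eq_true.1 certOK r (List.mem_range.2 hr)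
    have h3 := evalF_eq_of_sameCoef val hc
    have h4 : evalF val (certF r) = 0 := by
      unfold certF
      apply evalF_combF
      intro p hp
      obtain ⟨q, _, rfl⟩ := List.mem_map.1 hp
      exact red_all val hall q.2
    rw [evalF_append, evalF_append, evalF_zeroF, h4] at h3
    unfold PhiF at h3
    rw [evalF_append] at h3
    simp only [evalF] at h3
    have h5 : val r = C.tval RW r := mkVal_t hr
    have h6 : val 63 = e := mkVal_e
    have h7 : applyM idM (C.tval RW r) = C.tval RW r := applyM_idM (C.Ψ_lt _ (hrel r))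
    rw [h5, h6, h7, Nat.zero_xor, Nat.xor_zero, Nat.xor_zero, ← Nat.xor_assoc,
      Nat.xor_eq_zero_iff] at h3
    show C.Ψ (evalW (fun k => μ k * C.x k) (RW r)) = applyM (TCm r) e
    rw [h2]
    exact h3

end ExtW

end Cfsg.Agent.Helper3.M23W
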