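import Cfsg.Agent.Helper3.M23W.Lib

/-!
The generators of a subgroup of order 128 of the point stabilizer, four further elements, their
tables and matrices, and the relators of a presentation of the subgroup.
-/

set_option autoImplicit false
set_option maxRecDepth 100000

namespace Cfsg.Agent.Helper3.M23W

open Cfsg Cfsg.Agent.Helper9.Golay Cfsg.Agent.Helper3.M23Ext

def Tc3 : List ℕ := [2, 1, 4, 12, 0, 5, 6, 3, 14, 19, 10, 11, 7, 22, 20, 17, 13, 21, 9, 18, 8, 15, 16, 23]
def Tc3i : List ℕ := [4, 1, 0, 7, 2, 5, 6, 12, 20, 18, 10, 11, 3, 16, 8, 21, 22, 15, 19, 9, 14, 17, 13, 23]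
theorem chk_c3 : tblInvChk Tc3 Tc3i = true := by decide +kernel
/-- a further element of the point stabilizer. -/
def pc3 : Equiv.Perm GolayPt := mkP Tc3 Tc3i chk_c3
theorem tb_c3 : IsTbl pc3 Tc3 := mkP_tbl _ _ _
theorem tbi_c3 : IsTbl pc3⁻¹ Tc3i := mkP_inv_tbl _ _ _
theorem mem_c3 : pc3 ∈ Spor.M23 := mem_M23_of_chk tb_c3 (by decide +kernel) (by decide +kernel)

def Tc3p : List ℕ := [0, 1, 2, 14, 10, 5, 6, 19, 16, 8, 11, 4, 13, 15, 17, 12, 9, 3, 22, 21, 18, 7, 20, 23]
def Tc3pi : List ℕ := [0, 1, 2, 17, 11, 5, 6, 21, 9, 16, 4, 10, 15, 12, 3, 13, 8, 14, 20, 7, 22, 19, 18, 23]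
theorem chk_c3p : tblInvChk Tc3p Tc3pi = true := by decide +kernel
/-- a further element of the point stabilizer. -/
def pc3p : Equiv.Perm GolayPt := mkP Tc3p Tc3pi chk_c3p
theorem tb_c3p : IsTbl pc3p Tc3p := mkP_tbl _ _ _
theorem tbi_c3p : IsTbl pc3p⁻¹ Tc3pi := mkP_inv_tbl _ _ _
theorem mem_c3p : pc3p ∈ Spor.M23 := mem_M23_of_chk tb_c3p (by decide +kernel) (by decide +kernel)

theorem mem_e2 : pe2 ∈ Spor.M23 := mem_M23_of_chk tb_e2 (by decide +kernel) (by decide +kernel)
theorem mem_e3 : pe3 ∈ Spor.M23 := mem_M23_of_chk tb_e3 (by decide +kernel) (by decide +kernel)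
theorem mem_e4 : pe4 ∈ Spor.M23 := mem_M23_of_chk tb_e4 (by decide +kernel) (by decide +kernel)
theorem mem_b : pb ∈ Spor.M23 :=
  Spor.M23.mul_mem (Spor.M23.mul_mem mem_s mem_a) (Spor.M23.inv_mem mem_s)

/-- the generators. -/
def Gp : ℕ → Equiv.Perm GolayPt
  | 0 => ps | 1 => pb | 2 => pa | 3 => pe4 | 4 => pe3 | 5 => pe2 | 6 => pe1 | _ + 7 => 1

/-- the tables of the generators. -/
def TG : ℕ → List ℕ
  | 0 => Ts | 1 => Tb | 2 => Ta | 3 => Te4 | 4 => Te3 | 5 => Te2 | 6 => Te1 | _ + 7 => idT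

/-- the matrices of the generators. -/
def MG : ℕ → List ℕ
  | 0 => [64, 32, 367, 256, 734, 2, 1, 128, 8, 512, 1024]
  | 1 => [32, 4, 2, 64, 128, 1, 8, 16, 367, 734, 1024]
  | 2 => [256, 64, 8, 4, 512, 367, 2, 734, 1, 16, 1024]
  | 3 => [1468, 128, 512, 734, 64, 1993, 16, 2, 1595, 4, 367]
  | 4 => [32, 8, 64, 2, 512, 1, 4, 734, 367, 16, 1595]
  | 5 => [2, 1, 256, 32, 1024, 8, 367, 1468, 4, 1595, 16]
  | 6 => [367, 64, 8, 4, 128, 256, 2, 16, 32, 734, 1468]
  | _ + 7 => idM

theorem tbG : ∀ k, IsTbl (Gp k) (TG k)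
  | 0 => tb_s | 1 => tb_b | 2 => tb_a | 3 => tb_e4 | 4 => tb_e3 | 5 => tb_e2 | 6 => tb_e1
  | _ + 7 => isTbl_one

theorem tbiG : ∀ k, IsTbl (Gp k)⁻¹ (TG k)
  | 0 => tbi_s | 1 => tbi_b | 2 => tbi_a | 3 => tbi_e4 | 4 => tbi_e3 | 5 => tbi_e2 | 6 => tbi_e1
  | _ + 7 => by rw [show Gp (_ + 7) = 1 from rfl, inv_one]; exact isTbl_one

theorem memG : ∀ k, Gp k ∈ Spor.M23
  | 0 => mem_s | 1 => mem_b | 2 => mem_a | 3 => mem_e4 | 4 => mem_e3 | 5 => mem_e2 | 6 => mem_e1
  | _ + 7 => Spor.M23.one_mem

theorem chk_id : chkMat idT idM = true := by decide +kernel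

theorem chkMG : ∀ k, chkMat (TG k) (MG k) = true
  | 0 => by decide +kernel | 1 => by decide +kernel | 2 => by decide +kernel
  | 3 => by decide +kernel | 4 => by decide +kernel | 5 => by decide +kernel
  | 6 => by decide +kernel | _ + 7 => chk_id

/-- the further elements. -/
def Hp : ℕ → Equiv.Perm GolayPt
  | 0 => pt | 1 => pc3 | 2 => pz | 3 => pc3p | _ + 4 => 1

/-- the tables of the further elements. -/
def Th : ℕ → List ℕ
  | 0 => Tt | 1 => Tc3 | 2 => Tz | 3 => Tc3p | _ + 4 => idT

/-- the tables of their inverses. -/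
def Thi : ℕ → List ℕ
  | 0 => Tti | 1 => Tc3i | 2 => Tzi | 3 => Tc3pi | _ + 4 => idT

/-- the matrices of the further elements. -/
def Mh : ℕ → List ℕ
  | 0 => [64, 16, 128, 734, 256, 8, 512, 367, 2, 1, 1595]
  | 1 => [64, 128, 734, 16, 367, 2, 512, 32, 4, 1, 1468]
  | 2 => [1024, 8, 256, 32, 1, 16, 4, 367, 128, 2, 512]
  | 3 => [4, 1468, 16, 2, 1, 1595, 367, 1024, 32, 128, 512]
  | _ + 4 => idM

theorem tbH : ∀ j, IsTbl (Hp j) (Th j)
  | 0 => tb_t | 1 => tb_c3 | 2 => tb_z | 3 => tb_c3p | _ + 4 => isTbl_one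

theorem tbiH : ∀ j, IsTbl (Hp j)⁻¹ (Thi j)
  | 0 => tbi_t | 1 => tbi_c3 | 2 => tbi_z | 3 => tbi_c3p
  | _ + 4 => by rw [show Hp (_ + 4) = 1 from rfl, inv_one]; exact isTbl_one

theorem memH : ∀ j, Hp j ∈ Spor.M23
  | 0 => mem_t | 1 => mem_c3 | 2 => mem_z | 3 => mem_c3p | _ + 4 => Spor.M23.one_mem

theorem chkMh : ∀ j, chkMat (Th j) (Mh j) = true
  | 0 => by decide +kernel | 1 => by decide +kernel | 2 => by decide +kernel
  | 3 => by decide +kernel | _ + 4 => chk_id

/-- the relators. -/
def RWl : List Word := [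
  [(0, true), (0, true)],
  [(1, true), (1, true)],
  [(2, true), (2, true)],
  [(3, true), (3, true)],
  [(4, true), (4, true)],
  [(5, true), (5, true)],
  [(6, true), (6, true)],
  [(0, false), (1, true), (0, true), (2, false)],
  [(0, false), (2, true), (0, true), (1, false)],
  [(0, false), (3, true), (0, true), (5, false), (4, false), (3, false)],
  [(0, false), (4, true), (0, true), (6, false)],
  [(0, false), (5, true), (0, true), (6, false), (5, false), (4, false)],
  [(0, false), (6, true), (0, true), (4, false)],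
  [(1, false), (2, true), (1, true), (2, false)],
  [(1, false), (3, true), (1, true), (4, false), (3, false)],
  [(1, false), (4, true), (1, true), (4, false)],
  [(1, false), (5, true), (1, true), (6, false), (5, false)],
  [(1, false), (6, true), (1, true), (6, false)],
  [(2, false), (3, true), (2, true), (6, false), (4, false), (3, false)],
  [(2, false), (4, true), (2, true), (4, false)],
  [(2, false), (5, true), (2, true), (5, false), (4, false)],
  [(2, false), (6, true), (2, true), (6, false)],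
  [(3, false), (4, true), (3, true), (4, false)],
  [(3, false), (5, true), (3, true), (5, false)],
  [(3, false), (6, true), (3, true), (6, false)],
  [(4, false), (5, true), (4, true), (5, false)],
  [(4, false), (6, true), (4, true), (6, false)],
  [(5, false), (6, true), (5, true), (6, false)]]

/-- the relator with a given index. -/
def RW (r : ℕ) : Word := RWl.getD r []

/-- the words conjugated to the generators by the further elements. -/
def uWl : List (List Word) := [
  [[], [(1, true)], [(2, true)], [(5, true)], [(6, true)], [(3, true), (5, true)], [(4, true), (6, true)]],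
  [[], [(1, true), (2, true)], [(1, true)], [(4, true), (5, true)], [(4, true), (6, true)], [(3, true), (5, true), (6, true)], [(4, true)]],
  [[], [], [], [(3, true), (5, true)], [(3, true), (4, true), (6, true)], [(4, true)], [(6, true)]],
  [[(0, true)], [], [], [(3, true), (6, true)], [(3, true), (4, true), (5, true)], [(3, true), (4, true), (6, true)], [(3, true)]]]

/-- the word conjugated to the generator `k` by the further element `j`. -/
def uW (j k : ℕ) : Word := (uWl.getD j []).getD k []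

/-- the generators conjugated into the subgroup by the further elements. -/
def KLl : List (List ℕ) := [[1, 2, 3, 4, 5, 6], [1, 2, 3, 4, 5, 6], [3, 4, 5, 6], [0, 3, 4, 5, 6]]

/-- the generators conjugated into the subgroup by the further element `j`. -/
def KL (j : ℕ) : List ℕ := KLl.getD j []

theorem relOK : RWl.all (fun w => tblW TG w == idT && w.all (fun l => decide (l.1 < 7))) = true := by
  decide +kernel

theorem hKOK : (List.range 4).all (fun j => (KL j).all (fun k => decide (k < 7) &&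
    mulT (mulT (mulT (Th j) (tblW TG (uW j k))) (Thi j)) (TG k) == idT)) = true := by
  decide +kernel

end Cfsg.Agent.Helper3.M23W
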