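import Cfsg.Agent.Helper3.M23W.Data1

/-!
The identities among the relators, and the relators conjugated by the further elements as
products of conjugates of relators.
-/

set_option autoImplicit false
set_option maxRecDepth 100000

namespace Cfsg.Agent.Helper3.M23W

open Cfsg Cfsg.Agent.Helper9.Golay Cfsg.Agent.Helper3.M23Ext

/-- the identities among the relators. -/
def idData : List (List CR × List CR) := [
  ([([(0, true)], 0, true)],
   [([], 0, true)]),
  ([([(1, true)], 0, true), ([(1, true)], 8, true), ([(2, true), (0, true)], 7, true)],
   [([], 0, true)]),
  ([([(0, true)], 1, true)],
   [([], 2, true), ([(2, true), (2, true)], 7, true), ([(2, true)], 7, true)]),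
  ([([(1, true)], 1, true)],
   [([], 1, true)]),
  ([([(2, true)], 0, true), ([(2, true)], 7, true), ([(1, true), (0, true)], 8, true)],
   [([], 0, true)]),
  ([([(2, true)], 13, true), ([(2, true), (1, true)], 7, true), ([(1, true)], 8, true), ([(2, true), (0, true)], 13, true)],
   [([(1, true), (2, true)], 8, true), ([(2, true)], 7, true)]),
  ([([(2, true)], 1, true), ([(2, true)], 13, true), ([(2, true), (1, true)], 13, true)],
   [([], 1, true)]),
  ([([(0, true)], 2, true)],
   [([], 1, true), ([(1, true), (1, true)], 8, true), ([(1, true)], 8, true)]),
  ([([(1, true)], 2, true)],
   [([], 2, true), ([(2, true), (2, true)], 13, true), ([(2, true)], 13, true)]),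
  ([([(2, true)], 2, true)],
   [([], 2, true)]),
  ([([], 6, true), ([(6, true), (6, true)], 5, true), ([(6, true), (6, true)], 27, true), ([(5, true), (6, true), (5, true), (6, true)], 4, true), ([(5, true), (6, true), (5, true), (6, true)], 25, true), ([(6, true), (5, true), (6, true)], 26, true), ([(3, true), (4, true), (5, true), (6, true), (4, true), (5, true), (6, true)], 0, true), ([(3, true), (4, true), (5, true), (6, true), (4, true), (5, true), (6, true)], 9, true), ([(6, true), (4, true), (5, true), (6, true)], 10, true), ([(4, true), (5, true), (6, true)], 11, true), ([(3, true), (4, true), (5, true), (0, true)], 9, true)],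
   [([], 0, true)]),
  ([([(2, true), (3, true), (4, true), (5, true), (6, true)], 7, true), ([(3, true), (4, true), (5, true), (6, true)], 9, true), ([(6, true)], 10, true), ([(3, true), (4, true), (0, true)], 14, true)],
   [([(6, true)], 27, true), ([(3, true), (4, true), (6, true), (5, true)], 18, true), ([(5, true)], 4, true), ([(4, true), (4, true), (5, true)], 19, true), ([(4, true), (5, true)], 20, true), ([(3, true), (4, true), (5, true), (2, true)], 9, true), ([(2, true)], 7, true)]),
  ([([], 4, true), ([(3, true), (4, true), (4, true)], 1, true), ([(3, true), (4, true), (4, true)], 14, true), ([(4, true)], 15, true), ([(3, true), (4, true), (1, true)], 14, true)],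
   [([], 1, true)]),
  ([([(5, true), (6, true)], 4, true), ([(5, true), (6, true)], 25, true), ([(6, true)], 26, true), ([(1, true), (3, true), (4, true), (5, true), (6, true), (4, true)], 8, true), ([(3, true), (4, true), (5, true), (6, true), (4, true)], 9, true), ([(6, true), (4, true)], 10, true), ([(4, true)], 12, true), ([(3, true), (4, true), (6, true), (0, true)], 18, true)],
   [([(5, true), (6, true)], 4, true), ([(3, true), (4, true), (4, true), (5, true), (6, true)], 14, true), ([(4, true), (5, true), (6, true)], 15, true), ([(5, true), (6, true)], 16, true), ([(3, true), (4, true), (5, true), (1, true)], 9, true), ([(1, true)], 8, true)]),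
  ([([(6, true)], 4, true), ([(2, true), (3, true), (4, true), (4, true), (6, true)], 13, true), ([(3, true), (4, true), (4, true), (6, true)], 14, true), ([(4, true), (6, true)], 15, true), ([(6, true)], 17, true), ([(3, true), (4, true), (6, true), (1, true)], 18, true)],
   [([(6, true)], 4, true), ([(6, true)], 26, true), ([(3, true), (4, true), (6, true), (4, true)], 18, true), ([(4, true)], 19, true), ([(3, true), (4, true), (2, true)], 14, true), ([(2, true)], 13, true)]),
  ([([], 6, true), ([(6, true), (6, true)], 4, true), ([(6, true), (6, true)], 26, true), ([(3, true), (4, true), (6, true), (4, true), (6, true)], 2, true), ([(3, true), (4, true), (6, true), (4, true), (6, true)], 18, true), ([(4, true), (6, true)], 19, true), ([(6, true)], 21, true), ([(3, true), (4, true), (6, true), (2, true)], 18, true)],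
   [([], 2, true)]),
  ([([(0, true)], 3, true)],
   [([], 3, true), ([], 4, true), ([(4, true), (4, true)], 22, true), ([], 5, true), ([(5, true), (5, true)], 25, true), ([(5, true), (4, true), (5, true)], 23, true), ([(3, true), (4, true), (5, true), (3, true), (4, true), (5, true)], 9, true), ([(3, true), (4, true), (5, true)], 9, true)]),
  ([([(1, true)], 3, true)],
   [([], 3, true), ([], 4, true), ([(4, true), (4, true)], 22, true), ([(3, true), (4, true), (3, true), (4, true)], 14, true), ([(3, true), (4, true)], 14, true)]),
  ([([(2, true)], 3, true)],
   [([], 3, true), ([], 4, true), ([(4, true), (4, true)], 22, true), ([], 6, true), ([(6, true), (6, true)], 26, true), ([(6, true), (4, true), (6, true)], 24, true), ([(3, true), (4, true), (6, true), (3, true), (4, true), (6, true)], 18, true), ([(3, true), (4, true), (6, true)], 18, true)]),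
  ([([(3, true)], 3, true)],
   [([], 3, true)]),
  ([([(4, true)], 0, true), ([(4, true)], 12, true), ([(6, true), (0, true)], 10, true)],
   [([], 0, true)]),
  ([([(2, true), (6, true)], 7, true), ([(6, true)], 10, true), ([(4, true), (0, true)], 15, true)],
   [([(6, true)], 21, true), ([(6, true), (2, true)], 10, true), ([(2, true)], 7, true)]),
  ([([(4, true)], 1, true), ([(4, true)], 15, true), ([(4, true), (1, true)], 15, true)],
   [([], 1, true)]),
  ([([(1, true), (6, true)], 8, true), ([(6, true)], 10, true), ([(4, true), (0, true)], 19, true)],
   [([(6, true)], 17, true), ([(6, true), (1, true)], 10, true), ([(1, true)], 8, true)]),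
  ([([(2, true), (4, true)], 13, true), ([(4, true)], 15, true), ([(4, true), (1, true)], 19, true)],
   [([(4, true)], 19, true), ([(4, true), (2, true)], 15, true), ([(2, true)], 13, true)]),
  ([([(4, true)], 2, true), ([(4, true)], 19, true), ([(4, true), (2, true)], 19, true)],
   [([], 2, true)]),
  ([([(3, true), (4, true), (5, true), (6, true)], 9, true), ([(6, true)], 10, true), ([(4, true), (0, true)], 22, true)],
   [([(6, true)], 27, true), ([(6, true), (5, true)], 26, true), ([(6, true), (4, true), (5, true)], 24, true), ([(6, true), (3, true), (4, true), (5, true)], 10, true), ([(3, true), (4, true), (5, true)], 9, true)]),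
  ([([], 4, true), ([(3, true), (4, true), (4, true)], 14, true), ([(4, true)], 15, true), ([(4, true), (1, true)], 22, true)],
   [([], 4, true), ([(4, true), (4, true)], 22, true), ([(4, true), (3, true), (4, true)], 15, true), ([(3, true), (4, true)], 14, true)]),
  ([([(6, true)], 4, true), ([(6, true)], 26, true), ([(3, true), (4, true), (6, true), (4, true)], 18, true), ([(4, true)], 19, true), ([(4, true), (2, true)], 22, true)],
   [([(6, true)], 4, true), ([(4, true), (4, true), (6, true)], 22, true), ([(4, true), (3, true), (4, true), (6, true)], 19, true), ([(3, true), (4, true), (6, true)], 18, true)]),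
  ([([(4, true)], 3, true), ([(4, true)], 22, true), ([(4, true), (3, true)], 22, true)],
   [([], 3, true)]),
  ([([(0, true)], 4, true)],
   [([], 6, true), ([(6, true), (6, true)], 10, true), ([(6, true)], 10, true)]),
  ([([(1, true)], 4, true)],
   [([], 4, true), ([(4, true), (4, true)], 15, true), ([(4, true)], 15, true)]),
  ([([(2, true)], 4, true)],
   [([], 4, true), ([(4, true), (4, true)], 19, true), ([(4, true)], 19, true)]),
  ([([(3, true)], 4, true)],
   [([], 4, true), ([(4, true), (4, true)], 22, true), ([(4, true)], 22, true)]),
  ([([(4, true)], 4, true)],
   [([], 4, true)]),
  ([([(5, true)], 4, true), ([(5, true)], 25, true), ([(4, true)], 6, true), ([(6, true), (6, true), (4, true)], 27, true), ([(6, true), (5, true), (6, true), (4, true)], 26, true), ([(6, true), (4, true), (5, true), (6, true), (4, true)], 0, true), ([(6, true), (4, true), (5, true), (6, true), (4, true)], 10, true), ([(4, true), (5, true), (6, true), (4, true)], 11, true), ([(4, true)], 12, true), ([(4, true), (5, true), (6, true), (0, true)], 11, true)],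
   [([], 0, true)]),
  ([([(5, true), (6, true)], 4, true), ([(5, true), (6, true)], 25, true), ([(6, true)], 26, true), ([(2, true), (4, true), (5, true), (6, true), (4, true)], 7, true), ([(4, true), (5, true), (6, true), (4, true)], 11, true), ([(4, true)], 12, true), ([(5, true), (6, true), (0, true)], 16, true)],
   [([(5, true), (6, true)], 4, true), ([(4, true), (4, true), (5, true), (6, true)], 19, true), ([(4, true), (5, true), (6, true)], 20, true), ([(6, true)], 21, true), ([(4, true), (5, true), (6, true), (2, true)], 11, true), ([(2, true)], 7, true)]),
  ([([], 6, true), ([(5, true), (6, true), (6, true)], 1, true), ([(5, true), (6, true), (6, true)], 16, true), ([(6, true)], 17, true), ([(5, true), (6, true), (1, true)], 16, true)],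
   [([], 1, true)]),
  ([([], 6, true), ([(6, true), (6, true)], 27, true), ([(6, true), (5, true), (6, true)], 26, true), ([(1, true), (6, true), (4, true), (5, true), (6, true)], 8, true), ([(6, true), (4, true), (5, true), (6, true)], 10, true), ([(4, true), (5, true), (6, true)], 11, true), ([(4, true), (5, true), (0, true)], 20, true)],
   [([(4, true), (5, true)], 15, true), ([], 6, true), ([(5, true), (6, true), (6, true)], 16, true), ([(6, true)], 17, true), ([(4, true), (5, true), (6, true), (1, true)], 11, true), ([(1, true)], 8, true)]),
  ([([(2, true), (4, true), (5, true), (6, true)], 13, true), ([(4, true), (5, true), (6, true)], 15, true), ([(5, true), (6, true)], 16, true), ([(4, true), (5, true), (1, true)], 20, true)],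
   [([(4, true), (5, true), (6, true)], 20, true), ([(6, true)], 21, true), ([(5, true), (6, true), (2, true)], 16, true), ([(2, true)], 13, true)]),
  ([([(5, true)], 4, true), ([(4, true), (4, true), (5, true)], 2, true), ([(4, true), (4, true), (5, true)], 19, true), ([(4, true), (5, true)], 20, true), ([(4, true), (5, true), (2, true)], 20, true)],
   [([], 2, true)]),
  ([([(6, true)], 5, true), ([(5, true), (5, true), (6, true)], 4, true), ([(5, true), (5, true), (6, true)], 25, true), ([(3, true), (4, true), (5, true), (4, true), (5, true), (6, true)], 9, true), ([(4, true), (5, true), (6, true)], 11, true), ([(5, true), (0, true)], 23, true)],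
   [([(6, true)], 4, true), ([(4, true), (4, true), (6, true)], 22, true), ([(6, true)], 5, true), ([(5, true), (5, true), (6, true)], 25, true), ([(5, true), (4, true), (5, true), (6, true)], 23, true), ([(6, true)], 27, true), ([(6, true), (5, true)], 26, true), ([(6, true), (4, true), (5, true)], 24, true), ([(4, true), (5, true), (6, true), (3, true), (4, true), (5, true)], 11, true), ([(3, true), (4, true), (5, true)], 9, true)]),
  ([([(3, true), (4, true), (5, true), (6, true)], 14, true), ([(5, true), (6, true)], 16, true), ([(5, true), (1, true)], 23, true)],
   [([(5, true), (6, true)], 25, true), ([(5, true), (4, true), (6, true)], 23, true), ([(6, true)], 26, true), ([(6, true), (4, true)], 24, true), ([(5, true), (6, true), (3, true), (4, true)], 16, true), ([(3, true), (4, true)], 14, true)]),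
  ([([(6, true)], 27, true), ([(6, true), (5, true)], 4, true), ([(6, true), (5, true)], 26, true), ([(3, true), (4, true), (6, true), (4, true), (5, true)], 18, true), ([(4, true), (5, true)], 20, true), ([(5, true), (2, true)], 23, true)],
   [([(5, true), (6, true)], 4, true), ([(4, true), (4, true), (5, true), (6, true)], 22, true), ([(5, true), (6, true)], 25, true), ([(5, true), (4, true), (6, true)], 23, true), ([(4, true), (5, true), (3, true), (4, true), (6, true)], 20, true), ([(3, true), (4, true), (6, true)], 18, true)]),
  ([([(5, true)], 3, true), ([(5, true)], 23, true), ([(5, true), (3, true)], 23, true)],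
   [([], 3, true)]),
  ([([], 6, true), ([(6, true), (6, true)], 27, true), ([(6, true), (5, true), (6, true)], 26, true), ([(6, true), (4, true), (5, true), (6, true)], 10, true), ([(4, true), (5, true), (6, true)], 11, true), ([(5, true), (0, true)], 25, true)],
   [([], 6, true), ([(4, true), (5, true), (6, true), (6, true)], 11, true), ([(6, true)], 10, true)]),
  ([([(4, true), (5, true), (6, true)], 15, true), ([(5, true), (6, true)], 16, true), ([(5, true), (1, true)], 25, true)],
   [([(5, true), (6, true)], 25, true), ([(6, true)], 26, true), ([(5, true), (6, true), (4, true)], 16, true), ([(4, true)], 15, true)]),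
  ([([(5, true)], 4, true), ([(4, true), (4, true), (5, true)], 19, true), ([(4, true), (5, true)], 20, true), ([(5, true), (2, true)], 25, true)],
   [([(5, true)], 4, true), ([(5, true)], 25, true), ([(4, true), (5, true), (4, true)], 20, true), ([(4, true)], 19, true)]),
  ([([(4, true), (5, true)], 22, true), ([(5, true)], 23, true), ([(5, true), (3, true)], 25, true)],
   [([(5, true)], 25, true), ([(5, true), (4, true)], 23, true), ([(4, true)], 22, true)]),
  ([([(5, true)], 4, true), ([(5, true)], 25, true), ([(5, true), (4, true)], 25, true)],
   [([], 4, true)]),
  ([([(0, true)], 5, true)],
   [([], 4, true), ([], 5, true), ([(5, true), (5, true)], 25, true), ([], 6, true), ([(6, true), (6, true)], 27, true), ([(6, true), (5, true), (6, true)], 26, true), ([(4, true), (5, true), (6, true), (4, true), (5, true), (6, true)], 11, true), ([(4, true), (5, true), (6, true)], 11, true)]),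
  ([([(1, true)], 5, true)],
   [([], 5, true), ([], 6, true), ([(6, true), (6, true)], 27, true), ([(5, true), (6, true), (5, true), (6, true)], 16, true), ([(5, true), (6, true)], 16, true)]),
  ([([(2, true)], 5, true)],
   [([], 4, true), ([], 5, true), ([(5, true), (5, true)], 25, true), ([(4, true), (5, true), (4, true), (5, true)], 20, true), ([(4, true), (5, true)], 20, true)]),
  ([([(3, true)], 5, true)],
   [([], 5, true), ([(5, true), (5, true)], 23, true), ([(5, true)], 23, true)]),
  ([([(4, true)], 5, true)],
   [([], 5, true), ([(5, true), (5, true)], 25, true), ([(5, true)], 25, true)]),
  ([([(5, true)], 5, true)],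
   [([], 5, true)]),
  ([([(6, true)], 0, true), ([(6, true)], 10, true), ([(4, true), (0, true)], 12, true)],
   [([], 0, true)]),
  ([([(2, true), (4, true)], 7, true), ([(4, true)], 12, true), ([(6, true), (0, true)], 17, true)],
   [([(4, true)], 19, true), ([(4, true), (2, true)], 12, true), ([(2, true)], 7, true)]),
  ([([(6, true)], 1, true), ([(6, true)], 17, true), ([(6, true), (1, true)], 17, true)],
   [([], 1, true)]),
  ([([(1, true), (4, true)], 8, true), ([(4, true)], 12, true), ([(6, true), (0, true)], 21, true)],
   [([(4, true)], 15, true), ([(4, true), (1, true)], 12, true), ([(1, true)], 8, true)]),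
  ([([(2, true), (6, true)], 13, true), ([(6, true)], 17, true), ([(6, true), (1, true)], 21, true)],
   [([(6, true)], 21, true), ([(6, true), (2, true)], 17, true), ([(2, true)], 13, true)]),
  ([([(6, true)], 2, true), ([(6, true)], 21, true), ([(6, true), (2, true)], 21, true)],
   [([], 2, true)]),
  ([([(5, true)], 4, true), ([(5, true)], 25, true), ([(3, true), (4, true), (5, true), (4, true)], 9, true), ([(4, true)], 12, true), ([(6, true), (0, true)], 24, true)],
   [([(5, true)], 4, true), ([(4, true), (4, true), (5, true)], 22, true), ([(4, true), (3, true), (4, true), (5, true)], 12, true), ([(3, true), (4, true), (5, true)], 9, true)]),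
  ([([(3, true), (4, true), (6, true)], 14, true), ([(6, true)], 17, true), ([(6, true), (1, true)], 24, true)],
   [([(6, true)], 26, true), ([(6, true), (4, true)], 24, true), ([(6, true), (3, true), (4, true)], 17, true), ([(3, true), (4, true)], 14, true)]),
  ([([], 6, true), ([(3, true), (4, true), (6, true), (6, true)], 18, true), ([(6, true)], 21, true), ([(6, true), (2, true)], 24, true)],
   [([], 6, true), ([(6, true), (6, true)], 26, true), ([(6, true), (4, true), (6, true)], 24, true), ([(6, true), (3, true), (4, true), (6, true)], 21, true), ([(3, true), (4, true), (6, true)], 18, true)]),
  ([([(6, true)], 3, true), ([(6, true)], 24, true), ([(6, true), (3, true)], 24, true)],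
   [([], 3, true)]),
  ([([(6, true)], 26, true), ([(6, true), (4, true)], 10, true), ([(4, true)], 12, true), ([(6, true), (0, true)], 26, true)],
   [([(4, true), (6, true)], 12, true), ([(6, true)], 10, true)]),
  ([([(4, true), (6, true)], 15, true), ([(6, true)], 17, true), ([(6, true), (1, true)], 26, true)],
   [([(6, true)], 26, true), ([(6, true), (4, true)], 17, true), ([(4, true)], 15, true)]),
  ([([(4, true), (6, true)], 19, true), ([(6, true)], 21, true), ([(6, true), (2, true)], 26, true)],
   [([(6, true)], 26, true), ([(6, true), (4, true)], 21, true), ([(4, true)], 19, true)]),
  ([([(4, true), (6, true)], 22, true), ([(6, true)], 24, true), ([(6, true), (3, true)], 26, true)],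
   [([(6, true)], 26, true), ([(6, true), (4, true)], 24, true), ([(4, true)], 22, true)]),
  ([([(6, true)], 4, true), ([(6, true)], 26, true), ([(6, true), (4, true)], 26, true)],
   [([], 4, true)]),
  ([([(5, true), (6, true)], 4, true), ([(5, true), (6, true)], 25, true), ([(6, true)], 26, true), ([(4, true), (5, true), (6, true), (4, true)], 11, true), ([(4, true)], 12, true), ([(6, true), (0, true)], 27, true)],
   [([(5, true), (6, true)], 4, true), ([(4, true), (4, true), (5, true), (6, true)], 12, true), ([(4, true), (5, true), (6, true)], 11, true)]),
  ([([], 6, true), ([(5, true), (6, true), (6, true)], 16, true), ([(6, true)], 17, true), ([(6, true), (1, true)], 27, true)],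
   [([], 6, true), ([(6, true), (6, true)], 27, true), ([(6, true), (5, true), (6, true)], 17, true), ([(5, true), (6, true)], 16, true)]),
  ([([(4, true), (5, true), (6, true)], 20, true), ([(6, true)], 21, true), ([(6, true), (2, true)], 27, true)],
   [([(6, true)], 27, true), ([(6, true), (5, true)], 26, true), ([(6, true), (4, true), (5, true)], 21, true), ([(4, true), (5, true)], 20, true)]),
  ([([(5, true), (6, true)], 23, true), ([(6, true)], 24, true), ([(6, true), (3, true)], 27, true)],
   [([(6, true)], 27, true), ([(6, true), (5, true)], 24, true), ([(5, true)], 23, true)]),
  ([([(5, true), (6, true)], 25, true), ([(6, true)], 26, true), ([(6, true), (4, true)], 27, true)],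
   [([(6, true)], 27, true), ([(6, true), (5, true)], 26, true), ([(5, true)], 25, true)]),
  ([([(6, true)], 5, true), ([(6, true)], 27, true), ([(6, true), (5, true)], 27, true)],
   [([], 5, true)]),
  ([([(0, true)], 6, true)],
   [([], 4, true), ([(4, true), (4, true)], 12, true), ([(4, true)], 12, true)]),
  ([([(1, true)], 6, true)],
   [([], 6, true), ([(6, true), (6, true)], 17, true), ([(6, true)], 17, true)]),
  ([([(2, true)], 6, true)],
   [([], 6, true), ([(6, true), (6, true)], 21, true), ([(6, true)], 21, true)]),
  ([([(3, true)], 6, true)],
   [([], 6, true), ([(6, true), (6, true)], 24, true), ([(6, true)], 24, true)]),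
  ([([(4, true)], 6, true)],
   [([], 6, true), ([(6, true), (6, true)], 26, true), ([(6, true)], 26, true)]),
  ([([(5, true)], 6, true)],
   [([], 6, true), ([(6, true), (6, true)], 27, true), ([(6, true)], 27, true)]),
  ([([(6, true)], 6, true)],
   [([], 6, true)])]

/-- the conjugated relators. -/
def stDataL : List (List (ℕ × List CR)) := [
  [
   (1, [([], 1, true)]),
   (2, [([], 2, true)]),
   (3, [([], 5, true)]),
   (4, [([], 6, true)]),
   (5, [([], 5, true), ([(5, true), (5, true)], 3, true), ([(5, true), (5, true)], 23, true)]),
   (6, [([], 6, true), ([(6, true), (6, true)], 4, true), ([(6, true), (6, true)], 26, true)]),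
   (13, [([], 2, true), ([], 2, false), ([(2, true), (2, false)], 1, true), ([(2, true), (2, false)], 13, true), ([(2, true), (1, true), (2, false)], 1, false)]),
   (14, [([], 5, true), ([], 5, false), ([(5, false)], 6, true), ([(5, false)], 6, false), ([(5, true), (6, true), (6, false), (5, false)], 1, true), ([(5, true), (6, true), (6, false), (5, false)], 16, true), ([(5, true), (1, true), (6, false), (5, false)], 1, false)]),
   (15, [([], 6, true), ([], 6, false), ([(6, true), (6, false)], 1, true), ([(6, true), (6, false)], 17, true), ([(6, true), (1, true), (6, false)], 1, false)]),
   (16, [([], 3, true), ([], 3, false), ([(3, false)], 5, true), ([(3, false)], 5, false), ([(5, true), (5, false), (3, false)], 4, true), ([(5, true), (5, false), (3, false)], 25, true), ([(5, false), (3, false)], 4, false), ([(4, false), (5, false), (3, false)], 6, true), ([(4, false), (5, false), (3, false)], 6, false), ([(3, true), (4, true), (5, true), (6, true), (6, false), (4, false), (5, false), (3, false)], 1, true), ([(3, true), (4, true), (5, true), (6, true), (6, false), (4, false), (5, false), (3, false)], 14, true), ([(5, true), (6, true), (6, false), (4, false), (5, false), (3, false)], 16, true), ([(3, true), (5,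 true), (1, true), (6, false), (4, false), (5, false), (3, false)], 1, false)]),
   (17, [([], 4, true), ([], 4, false), ([(4, false)], 6, true), ([(4, false)], 6, false), ([(4, true), (6, true), (6, false), (4, false)], 1, true), ([(4, true), (6, true), (6, false), (4, false)], 15, true), ([(6, true), (6, false), (4, false)], 17, true), ([(4, true), (6, true), (1, true), (6, false), (4, false)], 1, false)]),
   (18, [([], 5, true), ([], 5, false), ([(5, false)], 6, true), ([(5, false)], 6, false), ([(5, true), (6, true), (6, false), (5, false)], 4, true), ([(5, true), (6, true), (6, false), (5, false)], 25, true), ([(6, true), (6, false), (5, false)], 26, true), ([(6, false), (5, false)], 4, false), ([(4, false), (6, false), (5, false)], 6, false), ([(4, true), (5, true), (6, false), (4, false), (6, false), (5, false)], 2, true), ([(4, true), (5, true), (6, false), (4, false), (6, false), (5, false)], 20, true), ([(5, true), (2, true), (6, false), (4, false), (6, false), (5, false)], 2, false)]),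
   (19, [([], 6, true), ([], 6, false), ([(6, true), (6, false)], 2, true), ([(6, true), (6, false)], 21, true), ([(6, true), (2, true), (6, false)], 2, false)]),
   (20, [([], 6, true), ([], 6, false), ([(6, true), (6, false)], 3, true), ([(6, true), (6, false)], 24, true), ([(6, false)], 3, false), ([(6, true), (3, false), (6, false)], 5, true), ([(6, true), (3, false), (6, false)], 27, true), ([(3, false), (6, false)], 5, false), ([(6, true), (5, false), (3, false), (6, false)], 27, true), ([(6, true), (5, true), (5, false), (3, false), (6, false)], 4, true), ([(6, true), (5, true), (5, false), (3, false), (6, false)], 26, true), ([(3, true), (4, true), (6, true), (4, true), (5, true), (5, false), (3, false), (6, false)], 2, true), ([(3, true), (4, true), (6, true), (4, true), (5, true), (5, false), (3, false), (6, false)], 18, true), ([(4, true), (5, true), (5, false), (3, false), (6, false)], 20, true), ([(3, true), (5, true), (2, true), (5, false), (3, false), (6, false)], 2, false)]),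
   (21, [([], 4, true), ([], 4, false), ([(4, false)], 6, true), ([(4, false)], 6, false), ([(4, true), (6, true), (6, false), (4, false)], 2, true), ([(4, true), (6, true), (6, false), (4, false)], 19, true), ([(6, true), (6, false), (4, false)], 21, true), ([(4, true), (6, true), (2, true), (6, false), (4, false)], 2, false)]),
   (22, [([], 6, true), ([], 6, false), ([(6, true), (6, false)], 5, true), ([(6, true), (6, false)], 27, true), ([(6, true), (5, true), (6, false)], 5, false)]),
   (23, [([], 3, true), ([], 3, false), ([(3, false)], 5, true), ([(3, false)], 5, false), ([(5, true), (5, false), (3, false)], 5, true), ([(5, true), (5, true), (5, true), (5, false), (3, false)], 23, true), ([(3, true), (5, true), (5, true), (5, false), (3, false)], 5, false)]),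
   (24, [([], 4, true), ([], 4, false), ([(4, false)], 6, true), ([(4, false)], 6, false), ([(6, true), (6, false), (4, false)], 5, true), ([(6, true), (6, false), (4, false)], 27, true), ([(5, true), (6, true), (5, true), (6, false), (4, false)], 25, true), ([(4, true), (6, true), (5, true), (6, false), (4, false)], 5, false)]),
   (25, [([], 3, true), ([], 3, false), ([(3, false)], 5, true), ([(3, false)], 5, false), ([(5, false), (3, false)], 6, true), ([(6, true), (6, true), (5, false), (3, false)], 27, true), ([(6, true), (5, true), (6, true), (5, false), (3, false)], 24, true), ([(3, true), (5, true), (6, true), (5, false), (3, false)], 6, false)]),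
   (26, [([], 4, true), ([], 4, false), ([(4, false)], 6, true), ([(4, false)], 6, false), ([(6, true), (6, false), (4, false)], 6, true), ([(6, true), (6, true), (6, true), (6, false), (4, false)], 26, true), ([(4, true), (6, true), (6, true), (6, false), (4, false)], 6, false)]),
   (27, [([], 4, true), ([], 4, false), ([(4, false)], 6, true), ([(4, false)], 6, false), ([(6, true), (6, false), (4, false)], 5, true), ([(6, true), (6, false), (4, false)], 27, true), ([(4, true), (5, true), (6, true), (5, true), (6, false), (4, false)], 3, true), ([(4, true), (5, true), (6, true), (5, true), (6, false), (4, false)], 22, true), ([(5, true), (6, true), (5, true), (6, false), (4, false)], 23, true), ([(6, true), (5, true), (6, false), (4, false)], 24, true), ([(5, true), (6, true), (3, true), (5, true), (6, false), (4, false)], 25, true), ([(5, true), (4, true), (6, true), (3, true), (5, true), (6, false), (4, false)], 23, true), ([(4, true), (6, true), (3, true), (5, true), (6, false), (4, false)], 3, false), ([(3, false), (4, true), (6, true), (3, true), (5, true), (6, false), (4, false)], 5, false)])],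
  [
   (1, [([], 2, true), ([(2, true), (2, true)], 1, true), ([(2, true), (2, true)], 13, true)]),
   (2, [([], 1, true)]),
   (3, [([], 5, true), ([(5, true), (5, true)], 4, true), ([(5, true), (5, true)], 25, true)]),
   (4, [([], 6, true), ([(6, true), (6, true)], 4, true), ([(6, true), (6, true)], 26, true)]),
   (5, [([], 6, true), ([(6, true), (6, true)], 5, true), ([(6, true), (6, true)], 27, true), ([(5, true), (6, true), (5, true), (6, true)], 3, true), ([(5, true), (6, true), (5, true), (6, true)], 23, true), ([(6, true), (5, true), (6, true)], 24, true)]),
   (6, [([], 4, true)]),
   (13, [([], 1, true), ([], 1, false), ([(1, false)], 2, true), ([(2, true), (2, true), (1, false)], 13, true), ([(2, true), (1, true), (2, true), (1, false)], 1, true), ([(2, true), (1, true), (2, true), (1, false)], 13, true), ([(2, true), (1, true), (1, true), (2, true), (1, false)], 13, true), ([(1, true), (1, true), (2, true), (1, false)], 1, false), ([(1, false), (1, true), (1, true), (2, true), (1, false)], 2, false)]),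
   (14, [([], 4, true), ([], 4, false), ([(4, false)], 5, true), ([(4, false)], 5, false), ([(5, true), (5, false), (4, false)], 25, true), ([(5, false), (4, false)], 4, false), ([(4, false), (5, false), (4, false)], 6, true), ([(4, false), (5, false), (4, false)], 6, false), ([(5, true), (6, true), (6, false), (4, false), (5, false), (4, false)], 4, true), ([(4, true), (4, true), (5, true), (6, true), (6, false), (4, false), (5, false), (4, false)], 2, true), ([(4, true), (4, true), (5, true), (6, true), (6, false), (4, false), (5, false), (4, false)], 19, true), ([(4, true), (5, true), (6, true), (6, false), (4, false), (5, false), (4, false)], 20, true), ([(6, true), (6, false), (4, false), (5, false), (4, false)], 21, true), ([(2, true), (4, true), (5, true), (6, true), (2, true), (6, false), (4, false), (5, false), (4, false)], 1, true), ([(2, true), (4, true), (5, true), (6, true), (2, true), (6, false), (4, false), (5, false), (4, false)], 13, true), ([(4, true), (5, true), (6, true), (2, true), (6, false), (4, false), (5, false), (4, false)], 15, true), ([(5, true), (6, true), (2, true), (6, false), (4, false), (5, false), (4, false)], 16, true), ([(2, true), (4, true), (5, true), (1, true), (2, true), (6,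 false), (4, false), (5, false), (4, false)], 13, true), ([(4, true), (5, true), (1, true), (2, true), (6, false), (4, false), (5, false), (4, false)], 1, false), ([(1, false), (4, true), (5, true), (1, true), (2, true), (6, false), (4, false), (5, false), (4, false)], 2, false)]),
   (15, [([], 4, true), ([], 4, false), ([(4, false)], 6, true), ([(4, false)], 6, false), ([(4, true), (6, true), (6, false), (4, false)], 2, true), ([(4, true), (6, true), (6, false), (4, false)], 19, true), ([(6, true), (6, false), (4, false)], 21, true), ([(2, true), (4, true), (6, true), (2, true), (6, false), (4, false)], 1, true), ([(2, true), (4, true), (6, true), (2, true), (6, false), (4, false)], 13, true), ([(4, true), (6, true), (2, true), (6, false), (4, false)], 15, true), ([(6, true), (2, true), (6, false), (4, false)], 17, true), ([(2, true), (4, true), (6, true), (1, true), (2, true), (6, false), (4, false)], 13, true), ([(4, true), (6, true), (1, true), (2, true), (6, false), (4, false)], 1, false), ([(1, false), (4, true), (6, true), (1, true), (2, true), (6, false), (4, false)], 2, false)]),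
   (16, [([], 3, true), ([], 3, false), ([(3, false)], 5, true), ([(3, false)], 5, false), ([(5, false), (3, false)], 6, true), ([(5, false), (3, false)], 6, false), ([(5, true), (6, true), (6, false), (5, false), (3, false)], 4, true), ([(5, true), (6, true), (6, false), (5, false), (3, false)], 25, true), ([(6, true), (6, false), (5, false), (3, false)], 26, true), ([(6, false), (5, false), (3, false)], 4, false), ([(6, true), (4, false), (6, false), (5, false), (3, false)], 27, true), ([(6, true), (5, true), (4, false), (6, false), (5, false), (3, false)], 26, true), ([(6, true), (4, true), (5, true), (4, false), (6, false), (5, false), (3, false)], 4, true), ([(6, true), (4, true), (5, true), (4, false), (6, false), (5, false), (3, false)], 26, true), ([(3, true), (4, true), (6, true), (4, true), (4, true), (5, true), (4, false), (6, false), (5, false), (3, false)], 2, true), ([(3, true), (4, true), (6, true), (4, true), (4, true), (5, true), (4, false), (6, false), (5, false), (3, false)], 18, true), ([(4, true), (4, true), (5, true), (4, false), (6, false), (5, false), (3, false)], 19, true), ([(4, true), (5, true), (4, false), (6, false), (5, false), (3, false)], 20, true), ([(2, true), (4, false), (6, false),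 (5, false), (3, false)], 6, true), ([(2, true), (3, true), (4, true), (5, true), (6, true), (6, true), (2, true), (4, false), (6, false), (5, false), (3, false)], 1, true), ([(2, true), (3, true), (4, true), (5, true), (6, true), (6, true), (2, true), (4, false), (6, false), (5, false), (3, false)], 13, true), ([(3, true), (4, true), (5, true), (6, true), (6, true), (2, true), (4, false), (6, false), (5, false), (3, false)], 14, true), ([(5, true), (6, true), (6, true), (2, true), (4, false), (6, false), (5, false), (3, false)], 16, true), ([(6, true), (2, true), (4, false), (6, false), (5, false), (3, false)], 17, true), ([(2, true), (3, true), (5, true), (6, true), (1, true), (2, true), (4, false), (6, false), (5, false), (3, false)], 13, true), ([(3, true), (5, true), (6, true), (1, true), (2, true), (4, false), (6, false), (5, false), (3, false)], 1, false), ([(1, false), (3, true), (5, true), (6, true), (1, true), (2, true), (4, false), (6, false), (5, false), (3, false)], 2, false)]),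
   (17, [([], 4, true), ([], 4, false), ([(4, true), (4, false)], 2, true), ([(4, true), (4, false)], 19, true), ([(2, true), (4, true), (2, true), (4, false)], 1, true), ([(2, true), (4, true), (2, true), (4, false)], 13, true), ([(4, true), (2, true), (4, false)], 15, true), ([(2, true), (4, true), (1, true), (2, true), (4, false)], 13, true), ([(4, true), (1, true), (2, true), (4, false)], 1, false), ([(1, false), (4, true), (1, true), (2, true), (4, false)], 2, false)]),
   (18, [([], 4, true), ([], 4, false), ([(4, false)], 5, true), ([(4, false)], 5, false), ([(5, true), (5, false), (4, false)], 25, true), ([(5, false), (4, false)], 4, false), ([(4, false), (5, false), (4, false)], 6, true), ([(4, false), (5, false), (4, false)], 6, false), ([(5, true), (6, true), (6, false), (4, false), (5, false), (4, false)], 4, true), ([(5, true), (6, true), (6, false), (4, false), (5, false), (4, false)], 25, true), ([(6, true), (6, false), (4, false), (5, false), (4, false)], 26, true), ([(6, false), (4, false), (5, false), (4, false)], 4, false), ([(4, true), (5, true), (6, true), (4, false), (6, false), (4, false), (5, false), (4, false)], 1, true), ([(4, true), (5, true), (6, true), (4, false), (6, false), (4, false),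 (5, false), (4, false)], 15, true), ([(5, true), (6, true), (4, false), (6, false), (4, false), (5, false), (4, false)], 16, true), ([(4, true), (5, true), (1, true), (4, false), (6, false), (4, false), (5, false), (4, false)], 1, false)]),
   (19, [([], 4, true), ([], 4, false), ([(4, false)], 6, true), ([(4, false)], 6, false), ([(4, true), (6, true), (6, false), (4, false)], 1, true), ([(4, true), (6, true), (6, false), (4, false)], 15, true), ([(6, true), (6, false), (4, false)], 17, true), ([(4, true), (6, true), (1, true), (6, false), (4, false)], 1, false)]),
   (20, [([], 4, true), ([], 4, false), ([(4, false)], 6, true), ([(4, false)], 6, false), ([(4, true), (6, true), (6, false), (4, false)], 3, true), ([(4, true), (6, true), (6, false), (4, false)], 22, true), ([(6, true), (6, false), (4, false)], 24, true), ([(6, false), (4, false)], 3, false), ([(6, true), (3, false), (6, false), (4, false)], 5, true), ([(6, true), (3, false), (6, false), (4, false)], 27, true), ([(3, false), (6, false), (4, false)], 5, false), ([(5, false), (3, false), (6, false), (4, false)], 6, false), ([(6, false), (5, false), (3, false), (6, false), (4, false)], 6, true), ([(3, true), (4, true), (5, true), (6, true), (6, true),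 (6, false), (5, false), (3, false), (6, false), (4, false)], 1, true), ([(3, true), (4, true), (5, true), (6, true), (6, true), (6, false), (5, false), (3, false), (6, false), (4, false)], 14, true), ([(5, true), (6, true), (6, true), (6, false), (5, false), (3, false), (6, false), (4, false)], 16, true), ([(6, true), (6, false), (5, false), (3, false), (6, false), (4, false)], 17, true), ([(3, true), (5, true), (6, true), (1, true), (6, false), (5, false), (3, false), (6, false), (4, false)], 1, false)]),
   (21, [([], 4, true), ([], 4, false), ([(4, true), (4, false)], 1, true), ([(4, true), (4, false)], 15, true), ([(4, true), (1, true), (4, false)], 1, false)]),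
   (22, [([], 4, true), ([], 4, false), ([(4, false)], 6, true), ([(4, false)], 6, false), ([(6, true), (6, false), (4, false)], 5, true), ([(6, true), (6, false), (4, false)], 27, true), ([(5, true), (6, true), (5, true), (6, false), (4, false)], 25, true), ([(6, true), (5, true), (6, false), (4, false)], 26, true), ([(5, true), (6, true), (4, true), (5, true), (6, false), (4, false)], 4, true), ([(5, true), (6, true), (4, true), (5, true), (6, false), (4, false)], 25, true), ([(5, true), (4, true), (6, true), (4, true), (5, true), (6, false), (4, false)], 25, true), ([(4, true), (6, true), (4, true), (5, true), (6, false), (4, false)], 4, false), ([(4, false), (4, true), (6, true), (4, true), (5, true), (6, false), (4, false)], 5, false)]),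
   (23, [([], 3, true), ([], 3, false), ([(3, false)], 5, true), ([(3, false)], 5, false), ([(5, false), (3, false)], 6, true), ([(5, false), (3, false)], 6, false), ([(6, true), (6, false), (5, false), (3, false)], 27, true), ([(6, true), (5, true), (6, false), (5, false), (3, false)], 4, true), ([(6, true), (5, true), (6, false), (5, false), (3, false)], 26, true), ([(6, true), (4, true), (5, true), (6, false), (5, false), (3, false)], 5, true), ([(4, true), (5, true), (5, true), (6, true), (4, true), (5, true), (6, false), (5, false), (3, false)], 22, true), ([(5, true), (5, true), (6, true), (4, true), (5, true), (6, false), (5, false), (3, false)], 23, true), ([(5, true), (3, true), (5, true), (6, true), (4, true), (5, true), (6, false), (5, false), (3, false)], 25, true), ([(3, true), (5, true), (6, true), (4, true), (5, true), (6, false), (5, false), (3, false)], 4, false), ([(4, false), (3, true), (5, true), (6, true), (4, true), (5, true), (6, false), (5, false), (3, false)], 5, false)]),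
   (24, [([], 4, true), ([], 4, false), ([(4, false)], 5, true), ([(5, true), (5, true), (4, false)], 25, true), ([(5, true), (4, true), (5, true), (4, false)], 4, true), ([(5, true), (4, true), (5, true), (4, false)], 25, true), ([(5, true), (4, true), (4, true), (5, true), (4, false)], 25, true), ([(4, true), (4, true), (5, true), (4, false)], 4, false), ([(4, false), (4, true), (4, true), (5, true), (4, false)], 5, false)]),
   (25, [([], 3, true), ([], 3, false), ([(3, false)], 5, true), ([(3, false)], 5, false), ([(5, false), (3, false)], 6, true), ([(5, false), (3, false)], 6, false), ([(5, true), (6, true), (6, false), (5, false), (3, false)], 4, true), ([(5, true), (6, true), (6, false), (5, false), (3, false)], 25, true), ([(4, true), (6, true), (6, false), (5, false), (3, false)], 6, true), ([(6, true), (6, true), (4, true), (6, true), (6, false), (5, false), (3, false)], 27, true), ([(4, true), (6, true), (5, true), (6, true), (4, true), (6, true), (6, false), (5, false), (3, false)], 22, true), ([(6, true), (5, true), (6, true), (4, true), (6, true), (6, false), (5, false), (3, false)], 24, true), ([(6, true), (3, true), (5, true), (6, true), (4, true), (6, true), (6, false), (5, false), (3, false)], 26,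 true), ([(3, true), (5, true), (6, true), (4, true), (6, true), (6, false), (5, false), (3, false)], 4, false), ([(4, false), (3, true), (5, true), (6, true), (4, true), (6, true), (6, false), (5, false), (3, false)], 6, false)]),
   (26, [([], 4, true), ([], 4, false), ([(4, false)], 6, true), ([(6, true), (6, true), (4, false)], 26, true), ([(6, true), (4, true), (6, true), (4, false)], 4, true), ([(6, true), (4, true), (6, true), (4, false)], 26, true), ([(6, true), (4, true), (4, true), (6, true), (4, false)], 26, true), ([(4, true), (4, true), (6, true), (4, false)], 4, false), ([(4, false), (4, true), (4, true), (6, true), (4, false)], 6, false)]),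
   (27, [([], 4, true), ([], 4, false), ([(4, false)], 6, true), ([(6, true), (6, true), (4, false)], 5, true), ([(6, true), (6, true), (4, false)], 27, true), ([(4, true), (5, true), (6, true), (5, true), (6, true), (4, false)], 3, true), ([(4, true), (5, true), (6, true), (5, true), (6, true), (4, false)], 22, true), ([(5, true), (6, true), (5, true), (6, true), (4, false)], 23, true), ([(6, true), (5, true), (6, true), (4, false)], 24, true), ([(5, true), (6, true), (3, true), (5, true), (6, true), (4, false)], 25, true), ([(6, true), (3, true), (5, true), (6, true), (4, false)], 26, true), ([(5, true), (6, true), (4, true), (3, true), (5, true), (6, true), (4, false)], 23, true), ([(6, true), (4, true), (3, true), (5, true), (6, true), (4, false)], 24, true), ([(4, true), (3, true), (5, true), (6, true), (4, false)], 3, false), ([(6, true), (3, false), (4, true), (3, true), (5, true), (6, true), (4, false)], 27, true), ([(3, false), (4, true), (3, true), (5, true), (6, true), (4, false)], 5, false), ([(5, false), (3, false), (4, true), (3, true), (5, true), (6, true), (4, false)], 6, false)])],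
  [
   (3, [([], 5, true), ([(5, true), (5, true)], 3, true), ([(5, true), (5, true)], 23, true)]),
   (4, [([], 6, true), ([(6, true), (6, true)], 4, true), ([(6, true), (6, true)], 26, true), ([(4, true), (6, true), (4, true), (6, true)], 3, true), ([(4, true), (6, true), (4, true), (6, true)], 22, true), ([(6, true), (4, true), (6, true)], 24, true)]),
   (5, [([], 4, true)]),
   (6, [([], 6, true)]),
   (22, [([], 3, true), ([], 3, false), ([(3, false)], 4, true), ([(3, false)], 4, false), ([(4, false), (3, false)], 6, true), ([(4, false), (3, false)], 6, false), ([(6, true), (6, false), (4, false), (3, false)], 5, true), ([(6, true), (6, false), (4, false), (3, false)], 27, true), ([(4, true), (5, true), (6, true), (5, true), (6, false), (4, false), (3, false)], 22, true), ([(5, true), (6, true), (5, true), (6, false), (4, false), (3, false)], 23, true), ([(6, true), (5, true), (6, false), (4, false), (3, false)], 24, true), ([(5, true), (6, true), (3, true), (5, true), (6, false), (4, false), (3, false)], 25, true), ([(5, true), (4, true), (6, true), (3, true), (5, true), (6, false), (4, false), (3, false)], 3, true), ([(5, true), (4, true), (6, true), (3, true), (5, true), (6, false), (4, false), (3, false)],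 23, true), ([(5, true), (3, true), (4, true), (6, true), (3, true), (5, true), (6, false), (4, false), (3, false)], 23, true), ([(3, true), (4, true), (6, true), (3, true), (5, true), (6, false), (4, false), (3, false)], 3, false), ([(3, false), (3, true), (4, true), (6, true), (3, true), (5, true), (6, false), (4, false), (3, false)], 5, false)]),
   (23, [([], 4, true), ([], 4, false), ([(4, false)], 5, true), ([(4, true), (5, true), (5, true), (4, false)], 3, true), ([(4, true), (5, true), (5, true), (4, false)], 22, true), ([(5, true), (5, true), (4, false)], 23, true), ([(5, true), (3, true), (5, true), (4, false)], 25, true), ([(5, true), (4, true), (3, true), (5, true), (4, false)], 23, true), ([(4, true), (3, true), (5, true), (4, false)], 3, false), ([(3, false), (4, true), (3, true), (5, true), (4, false)], 5, false)]),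
   (24, [([], 6, true), ([], 6, false), ([(6, true), (6, false)], 5, true), ([(6, true), (6, false)], 27, true), ([(5, true), (6, true), (5, true), (6, false)], 3, true), ([(5, true), (6, true), (5, true), (6, false)], 23, true), ([(6, true), (5, true), (6, false)], 24, true), ([(5, true), (6, true), (3, true), (5, true), (6, false)], 23, true), ([(6, true), (3, true), (5, true), (6, false)], 3, false), ([(3, false), (6, true), (3, true), (5, true), (6, false)], 5, false)]),
   (25, [([], 4, true), ([], 4, false), ([(4, false)], 6, true), ([(6, true), (6, true), (4, false)], 26, true), ([(6, true), (4, true), (6, true), (4, false)], 3, true), ([(6, true), (4, true), (6, true), (4, false)], 24, true), ([(6, true), (3, true), (4, true), (6, true), (4, false)], 4, true), ([(6, true), (3, true), (4, true), (6, true), (4, false)], 26, true), ([(4, true), (6, true), (4, true), (3, true), (4, true), (6, true), (4, false)], 22, true), ([(6, true), (4, true), (3, true), (4, true), (6, true), (4, false)], 24, true), ([(4, true), (3, true), (4, true), (6, true), (4, false)], 3, false), ([(6, true), (3, false), (4, true), (3, true), (4, true), (6, true), (4, false)], 26, true), ([(3, false), (4, true), (3, true), (4, true), (6,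 true), (4, false)], 4, false), ([(4, false), (3, false), (4, true), (3, true), (4, true), (6, true), (4, false)], 6, false)]),
   (26, [([], 6, true), ([], 6, false), ([(6, true), (6, false)], 4, true), ([(4, true), (4, true), (6, true), (6, false)], 3, true), ([(4, true), (4, true), (6, true), (6, false)], 22, true), ([(3, true), (4, true), (6, true), (6, false)], 6, true), ([(4, true), (6, true), (6, true), (3, true), (4, true), (6, true), (6, false)], 22, true), ([(6, true), (6, true), (3, true), (4, true), (6, true), (6, false)], 24, true), ([(6, true), (3, true), (4, true), (6, true), (6, false)], 3, false), ([(6, true), (3, false), (6, true), (3, true), (4, true), (6, true), (6, false)], 26, true), ([(3, false), (6, true), (3, true), (4, true), (6, true), (6, false)], 4, false), ([(4, false), (3, false), (6, true), (3, true), (4, true), (6, true), (6, false)], 6, false)]),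
   (27, [([], 6, true), ([], 6, false), ([(6, true), (6, false)], 4, true), ([(6, true), (6, false)], 26, true), ([(6, true), (4, true), (6, false)], 4, false)])],
  [
   (0, [([], 0, true)]),
   (3, [([], 6, true), ([(6, true), (6, true)], 3, true), ([(6, true), (6, true)], 24, true)]),
   (4, [([], 5, true), ([(5, true), (5, true)], 4, true), ([(5, true), (5, true)], 25, true), ([(4, true), (5, true), (4, true), (5, true)], 3, true), ([(4, true), (5, true), (4, true), (5, true)], 22, true), ([(5, true), (4, true), (5, true)], 23, true)]),
   (5, [([], 6, true), ([(6, true), (6, true)], 4, true), ([(6, true), (6, true)], 26, true), ([(4, true), (6, true), (4, true), (6, true)], 3, true), ([(4, true), (6, true), (4, true), (6, true)], 22, true), ([(6, true), (4, true), (6, true)], 24, true)]),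
   (6, [([], 3, true)]),
   (9, [([], 3, true), ([], 3, false), ([(3, false)], 6, true), ([(3, false)], 6, false), ([(6, true), (6, false), (3, false)], 24, true), ([(6, false), (3, false)], 3, false), ([(6, true), (3, false), (6, false), (3, false)], 4, true), ([(6, true), (3, false), (6, false), (3, false)], 26, true), ([(3, false), (6, false), (3, false)], 4, false), ([(6, true), (4, false), (3, false), (6, false), (3, false)], 5, true), ([(6, true), (4, false), (3, false), (6, false), (3, false)], 27, true), ([(4, false), (3, false), (6, false), (3, false)], 5, false), ([(4, true), (5, true), (6, true), (5, false), (4, false), (3, false), (6, false), (3, false)], 3, true), ([(4, true), (5, true), (6, true), (5, false), (4, false), (3, false), (6, false), (3, false)], 22, true), ([(5, true), (6, true), (5, false), (4, false), (3, false), (6, false), (3, false)], 23, true), ([(6, true), (5, false), (4, false), (3, false), (6, false), (3, false)], 24, true), ([(5, false), (4, false), (3, false), (6, false), (3, false)], 3, false), ([(5, true), (6, true), (3, false), (5, false), (4, false), (3, false), (6, false), (3, false)], 25, true), ([(6, true), (3, false), (5, false), (4, false), (3, false), (6, false), (3,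 false)], 26, true), ([(3, false), (5, false), (4, false), (3, false), (6, false), (3, false)], 4, false), ([(4, false), (3, false), (5, false), (4, false), (3, false), (6, false), (3, false)], 6, false), ([(5, true), (6, false), (4, false), (3, false), (5, false), (4, false), (3, false), (6, false), (3, false)], 4, true), ([(5, true), (6, false), (4, false), (3, false), (5, false), (4, false), (3, false), (6, false), (3, false)], 25, true), ([(3, true), (4, true), (5, true), (4, true), (6, false), (4, false), (3, false), (5, false), (4, false), (3, false), (6, false), (3, false)], 0, true), ([(3, true), (4, true), (5, true), (4, true), (6, false), (4, false), (3, false), (5, false), (4, false), (3, false), (6, false), (3, false)], 9, true), ([(4, true), (6, false), (4, false), (3, false), (5, false), (4, false), (3, false), (6, false), (3, false)], 12, true), ([(3, true), (6, true), (0, true), (6, false), (4, false), (3, false), (5, false), (4, false), (3, false), (6, false), (3, false)], 0, false)]),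
   (10, [([], 3, true), ([], 3, false), ([(3, false)], 6, true), ([(6, true), (6, true), (3, false)], 5, true), ([(6, true), (6, true), (3, false)], 27, true), ([(5, true), (6, true), (5, true), (6, true), (3, false)], 4, true), ([(5, true), (6, true), (5, true), (6, true), (3, false)], 25, true), ([(6, true), (5, true), (6, true), (3, false)], 26, true), ([(3, true), (4, true), (5, true), (6, true), (4, true), (5, true), (6, true), (3, false)], 0, true), ([(3, true), (4, true), (5, true), (6, true), (4, true), (5, true), (6, true), (3, false)], 9, true), ([(6, true), (4, true), (5, true), (6, true), (3, false)], 10, true), ([(4, true), (5, true), (6, true), (3, false)], 11, true), ([(3, true), (4, true), (5, true), (0, true), (3, false)], 0, false)]),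
   (11, [([], 3, true), ([], 3, false), ([(3, false)], 4, true), ([(3, false)], 4, false), ([(4, false), (3, false)], 5, true), ([(4, false), (3, false)], 5, false), ([(4, true), (5, true), (5, false), (4, false), (3, false)], 22, true), ([(5, true), (5, false), (4, false), (3, false)], 23, true), ([(5, false), (4, false), (3, false)], 3, false), ([(5, true), (3, false), (5, false), (4, false), (3, false)], 25, true), ([(3, false), (5, false), (4, false), (3, false)], 4, false), ([(4, false), (3, false), (5, false), (4, false), (3, false)], 6, true), ([(4, false), (3, false), (5, false), (4, false), (3, false)], 6, false), ([(5, true), (6, true), (6, false), (4, false), (3, false), (5, false), (4, false), (3, false)], 3, true), ([(5, true), (6, true), (6, false), (4, false), (3, false), (5, false), (4, false), (3, false)], 23, true), ([(6, true), (6, false), (4, false), (3, false), (5, false), (4, false), (3, false)], 24, true), ([(6, false), (4, false), (3, false), (5, false), (4, false), (3, false)], 3, false), ([(5, true), (6, true), (3, false), (6, false), (4, false), (3, false), (5, false), (4, false), (3, false)], 4, true), ([(5, true), (6, true), (3, false), (6, false), (4, false), (3, false), (5, false), (4,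 false), (3, false)], 25, true), ([(6, true), (3, false), (6, false), (4, false), (3, false), (5, false), (4, false), (3, false)], 26, true), ([(3, true), (4, true), (5, true), (6, true), (4, true), (3, false), (6, false), (4, false), (3, false), (5, false), (4, false), (3, false)], 0, true), ([(3, true), (4, true), (5, true), (6, true), (4, true), (3, false), (6, false), (4, false), (3, false), (5, false), (4, false), (3, false)], 9, true), ([(6, true), (4, true), (3, false), (6, false), (4, false), (3, false), (5, false), (4, false), (3, false)], 10, true), ([(4, true), (3, false), (6, false), (4, false), (3, false), (5, false), (4, false), (3, false)], 12, true), ([(3, true), (4, true), (6, true), (0, true), (3, false), (6, false), (4, false), (3, false), (5, false), (4, false), (3, false)], 0, false)]),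
   (12, [([], 3, true), ([], 3, false), ([(3, false)], 4, true), ([(3, false)], 4, false), ([(4, false), (3, false)], 5, true), ([(4, false), (3, false)], 5, false), ([(3, true), (4, true), (5, true), (5, false), (4, false), (3, false)], 0, true), ([(3, true), (4, true), (5, true), (5, false), (4, false), (3, false)], 9, true), ([(3, true), (0, true), (5, false), (4, false), (3, false)], 0, false)]),
   (22, [([], 3, true), ([], 3, false), ([(3, false)], 4, true), ([(3, false)], 4, false), ([(4, false), (3, false)], 5, true), ([(4, false), (3, false)], 5, false), ([(5, false), (4, false), (3, false)], 6, true), ([(4, true), (5, true), (6, true), (6, true), (5, false), (4, false), (3, false)], 22, true), ([(5, true), (6, true), (6, true), (5, false), (4, false), (3, false)], 23, true), ([(6, true), (6, true), (5, false), (4, false), (3, false)], 24, true), ([(6, true), (3, true), (6, true), (5, false), (4, false), (3, false)], 27, true), ([(6, true), (5, true), (3, true), (6, true), (5, false), (4, false), (3, false)], 26, true), ([(6, true), (4, true), (5, true), (3, true), (6, true), (5, false), (4, false), (3, false)], 3, true), ([(6, true), (4, true), (5, true), (3, true), (6, true), (5, false), (4, false), (3,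 false)], 24, true), ([(6, true), (3, true), (4, true), (5, true), (3, true), (6, true), (5, false), (4, false), (3, false)], 24, true), ([(3, true), (4, true), (5, true), (3, true), (6, true), (5, false), (4, false), (3, false)], 3, false), ([(3, false), (3, true), (4, true), (5, true), (3, true), (6, true), (5, false), (4, false), (3, false)], 6, false)]),
   (23, [([], 3, true), ([], 3, false), ([(3, false)], 4, true), ([(3, false)], 4, false), ([(4, false), (3, false)], 6, true), ([(4, false), (3, false)], 6, false), ([(4, true), (6, true), (6, false), (4, false), (3, false)], 22, true), ([(3, true), (6, true), (6, false), (4, false), (3, false)], 6, true), ([(6, true), (6, true), (3, true), (6, true), (6, false), (4, false), (3, false)], 26, true), ([(6, true), (4, true), (6, true), (3, true), (6, true), (6, false), (4, false), (3, false)], 3, true), ([(6, true), (4, true), (6, true), (3, true), (6, true), (6, false), (4, false), (3, false)], 24, true), ([(6, true), (3, true), (4, true), (6, true), (3, true), (6, true), (6, false), (4, false), (3, false)], 24, true), ([(3, true), (4, true), (6, true), (3, true), (6, true), (6, false), (4, false), (3, false)], 3, false), ([(3, false), (3, true), (4, true), (6,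 true), (3, true), (6, true), (6, false), (4, false), (3, false)], 6, false)]),
   (24, [([], 3, true), ([], 3, false), ([(3, false)], 6, true), ([(6, true), (6, true), (3, false)], 24, true), ([(6, true), (3, true), (6, true), (3, false)], 3, true), ([(6, true), (3, true), (6, true), (3, false)], 24, true), ([(6, true), (3, true), (3, true), (6, true), (3, false)], 24, true), ([(3, true), (3, true), (6, true), (3, false)], 3, false), ([(3, false), (3, true), (3, true), (6, true), (3, false)], 6, false)]),
   (25, [([], 3, true), ([], 3, false), ([(3, false)], 4, true), ([(3, false)], 4, false), ([(4, false), (3, false)], 6, true), ([(4, false), (3, false)], 6, false), ([(6, true), (6, false), (4, false), (3, false)], 5, true), ([(6, true), (6, false), (4, false), (3, false)], 27, true), ([(5, true), (6, true), (5, true), (6, false), (4, false), (3, false)], 25, true), ([(6, true), (5, true), (6, false), (4, false), (3, false)], 26, true), ([(5, true), (6, true), (4, true), (5, true), (6, false), (4, false), (3, false)], 23, true), ([(6, true), (4, true), (5, true), (6, false), (4, false), (3, false)], 24, true), ([(5, true), (6, true), (3, true), (4, true), (5, true), (6, false), (4, false), (3, false)], 4, true),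 ([(5, true), (6, true), (3, true), (4, true), (5, true), (6, false), (4, false), (3, false)], 25, true), ([(4, true), (5, true), (4, true), (6, true), (3, true), (4, true), (5, true), (6, false), (4, false), (3, false)], 3, true), ([(4, true), (5, true), (4, true), (6, true), (3, true), (4, true), (5, true), (6, false), (4, false), (3, false)], 22, true), ([(5, true), (4, true), (6, true), (3, true), (4, true), (5, true), (6, false), (4, false), (3, false)], 23, true), ([(4, true), (5, true), (3, true), (4, true), (6, true), (3, true), (4, true), (5, true), (6, false), (4, false), (3, false)], 22, true), ([(5, true), (3, true), (4, true), (6, true), (3, true), (4, true), (5, true), (6, false), (4, false), (3, false)], 23, true), ([(3, true), (4, true), (6, true), (3, true), (4, true), (5, true), (6, false), (4, false), (3, false)], 3, false), ([(5, true), (3, false), (3, true), (4, true), (6, true), (3, true), (4, true), (5, true), (6, false), (4, false), (3, false)], 25, true), ([(3, false), (3, true), (4, true), (6, true), (3, true), (4, true), (5, true), (6, false), (4, false), (3, false)], 4, false), ([(4, false), (3, false), (3, true), (4, true), (6, true), (3, true), (4, true), (5, true), (6, false), (4, false),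 (3, false)], 5, false)]),
   (26, [([], 3, true), ([], 3, false), ([(3, false)], 5, true), ([(5, true), (5, true), (3, false)], 4, true), ([(5, true), (5, true), (3, false)], 25, true), ([(4, true), (5, true), (4, true), (5, true), (3, false)], 22, true), ([(5, true), (4, true), (5, true), (3, false)], 23, true), ([(4, true), (5, true), (3, true), (4, true), (5, true), (3, false)], 3, true), ([(4, true), (5, true), (3, true), (4, true), (5, true), (3, false)], 22, true), ([(5, true), (3, true), (4, true), (5, true), (3, false)], 23, true), ([(4, true), (5, true), (3, true), (3, true), (4, true), (5, true), (3, false)], 22, true), ([(5, true), (3, true), (3, true), (4, true), (5, true), (3, false)], 23, true), ([(3, true), (3, true), (4, true), (5, true), (3, false)], 3, false), ([(5, true), (3, false), (3, true), (3, true), (4, true), (5, true), (3, false)], 25, true), ([(3, false), (3, true), (3, true), (4, true), (5, true), (3, false)], 4, false), ([(4, false), (3, false), (3, true), (3, true), (4, true), (5, true), (3, false)], 5, false)]),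
   (27, [([], 3, true), ([], 3, false), ([(3, false)], 6, true), ([(6, true), (6, true), (3, false)], 4, true), ([(6, true), (6, true), (3, false)], 26, true), ([(4, true), (6, true), (4, true), (6, true), (3, false)], 22, true), ([(6, true), (4, true), (6, true), (3, false)], 24, true), ([(4, true), (6, true), (3, true), (4, true), (6, true), (3, false)], 3, true), ([(4, true), (6, true), (3, true), (4, true), (6, true), (3, false)], 22, true), ([(6, true), (3, true), (4, true), (6, true), (3, false)], 24, true), ([(4, true), (6, true), (3, true), (3, true), (4, true), (6, true), (3, false)], 22, true), ([(6, true), (3, true), (3, true), (4, true), (6, true), (3, false)], 24, true), ([(3, true), (3, true), (4, true), (6, true), (3, false)], 3, false), ([(6, true), (3, false), (3, true), (3, true), (4, true), (6, true), (3, false)], 26, true), ([(3, false), (3, true), (3, true), (4, true), (6, true), (3, false)], 4, false), ([(4, false), (3, false), (3, true), (3, true), (4, true), (6, true), (3, false)], 6, false)])]]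

/-- the conjugated relators for the further element `j`. -/
def stData (j : ℕ) : List (ℕ × List CR) := stDataL.getD j []

/-- the check of an identity. -/
def idChk (p : List CR × List CR) : Bool :=
  p.1.all (fun c => decide (c.2.1 < 28)) && p.2.all (fun c => decide (c.2.1 < 28)) &&
    red (expand RW p.1) == red (expand RW p.2)

/-- the check of a conjugated relator. -/
def stChk (j : ℕ) (p : ℕ × List CR) : Bool :=
  decide (p.1 < 28) && (RW p.1).all (fun l => (KL j).contains l.1) &&
    p.2.all (fun c => decide (c.2.1 < 28)) &&
    red (substW (uW j) (RW p.1)) == red (expand RW p.2)

theorem idOK : idData.all idChk = true := by decide +kernel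

theorem stOK : (List.range 4).all (fun j => (stData j).all (stChk j)) = true := by decide +kernel

end Cfsg.Agent.Helper3.M23W
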