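import Cfsg.Agent.Helper3.M23W.Data3

/-!
The check of the certificates.
-/

set_option autoImplicit false
set_option maxRecDepth 100000

namespace Cfsg.Agent.Helper3.M23W

open Cfsg Cfsg.Agent.Helper9.Golay Cfsg.Agent.Helper3.M23Ext

/-- the check that a relation and the relation with collected terms agree. -/
def redChk (i : ℕ) : Bool :=
  sameCoef (zeroF 64 ++ allF.getD i []) (zeroF 64 ++ allFr.getD i []) 64

theorem redOK0 : (List.range' 0 20).all redChk = true := by decide +kernel

theorem redOK1 : (List.range' 20 20).all redChk = true := by decide +kernel

theorem redOK2 : (List.range' 40 20).all redChk = true := by decide +kernel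

theorem redOK3 : (List.range' 60 20).all redChk = true := by decide +kernel

theorem redOK4 : (List.range' 80 20).all redChk = true := by decide +kernel

theorem redOK5 : (List.range' 100 20).all redChk = true := by decide +kernel

theorem redOK6 : (List.range' 120 20).all redChk = true := by decide +kernel

theorem redOK7 : (List.range' 140 20).all redChk = true := by decide +kernel

theorem lenOK : allFr.length ≤ 160 := by decide +kernel

theorem certOK : (List.range 28).all (fun r =>
    sameCoef (zeroF 64 ++ PhiF r) (zeroF 64 ++ certF r) 64) = true := by decide +kernel

end Cfsg.Agent.Helper3.M23W
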