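import Mathlib

set_option autoImplicit false

/-!
Words in letters and inverse letters, their values in a group, free reduction, substitution.
-/

namespace Cfsg.Agent.Helper3.M23W

/-- a letter with its sign (`true` for the letter itself, `false` for its inverse). -/
abbrev Letter := ℕ × Bool

abbrev Word := List Letter

section Eval

variable {G : Type*} [Group G]

/-- the value of a letter. -/
def evalL (x : ℕ → G) (l : Letter) : G := if l.2 = true then x l.1 else (x l.1)⁻¹

/-- the value of a word. -/
def evalW (x : ℕ → G) : Word → G
  | [] => 1
  | l :: w => evalL x l * evalW x w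

theorem evalW_nil (x : ℕ → G) : evalW x [] = 1 := rfl

theorem evalW_cons (x : ℕ → G) (l : Letter) (w : Word) :
    evalW x (l :: w) = evalL x l * evalW x w := rfl

theorem evalW_append (x : ℕ → G) (u w : Word) : evalW x (u ++ w) = evalW x u * evalW x w := by
  induction u with
  | nil => simp [evalW]
  | cons l u ih => simp only [List.cons_append, evalW, ih, mul_assoc]

/-- the inverse word. -/
def winv (w : Word) : Word := (w.map (fun l => (l.1, !l.2))).reverse

theorem evalL_not (x : ℕ → G) (l : Letter) : evalL x (l.1, !l.2) = (evalL x l)⁻¹ := by
  obtain ⟨k, s⟩ := l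
  cases s <;> simp [evalL]

theorem evalW_winv (x : ℕ → G) (w : Word) : evalW x (winv w) = (evalW x w)⁻¹ := by
  induction w with
  | nil => simp [winv, evalW]
  | cons l w ih =>
    have e : winv (l :: w) = winv w ++ [(l.1, !l.2)] := by
      simp [winv]
    rw [e, evalW_append, ih, evalW_cons, evalW_cons, evalW_nil, mul_one, evalL_not, mul_inv_rev]

/-- one step of free reduction, on a stack. -/
def push (l : Letter) : Word → Word
  | [] => [l]
  | m :: s => if m.1 = l.1 ∧ m.2 = !l.2 then s else l :: m :: s

theorem evalW_push (x : ℕ → G) (l : Letter) (s : Word) :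
    evalW x (push l s) = evalL x l * evalW x s := by
  cases s with
  | nil => rfl
  | cons m s =>
    show evalW x (if m.1 = l.1 ∧ m.2 = !l.2 then s else l :: m :: s) = _
    by_cases h : m.1 = l.1 ∧ m.2 = !l.2
    · rw [if_pos h]
      have hm : m = (l.1, !l.2) := Prod.ext h.1 h.2
      rw [evalW_cons, hm, evalL_not, mul_inv_cancel_left]
    · rw [if_neg h]
      rfl

/-- free reduction. -/
def red (w : Word) : Word := w.foldr push []

theorem evalW_red (x : ℕ → G) (w : Word) : evalW x (red w) = evalW x w := by
  induction w with
  | nil => rfl
  | cons l w ih =>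
    have e : red (l :: w) = push l (red w) := rfl
    rw [e, evalW_push, ih, evalW_cons]

theorem evalW_eq_of_red (x : ℕ → G) {u w : Word} (h : red u = red w) : evalW x u = evalW x w := by
  rw [← evalW_red x u, h, evalW_red]

/-- substitution of words for the letters. -/
def substW (u : ℕ → Word) : Word → Word
  | [] => []
  | l :: w => (if l.2 = true then u l.1 else winv (u l.1)) ++ substW u w

theorem evalW_substW (x : ℕ → G) (u : ℕ → Word) (w : Word) :
    evalW x (substW u w) = evalW (fun k => evalW x (u k)) w := by
  induction w with
  | nil => rfl
  | cons l w ih =>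
    simp only [substW, evalW_append, ih, evalW_cons]
    congr 1
    obtain ⟨k, s⟩ := l
    cases s
    · simp [evalL, evalW_winv]
    · simp [evalL]

/-- the value of a word under a homomorphism. -/
theorem map_evalW {H : Type*} [Group H] (f : G →* H) (x : ℕ → G) (w : Word) :
    f (evalW x w) = evalW (fun k => f (x k)) w := by
  induction w with
  | nil => simp [evalW]
  | cons l w ih =>
    rw [evalW_cons, evalW_cons, map_mul, ih]
    congr 1
    obtain ⟨k, s⟩ := l
    cases s <;> simp [evalL]

/-- the value of a word at conjugated letters. -/
theorem evalW_conj (g : G) (x : ℕ → G) (w : Word) :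
    evalW (fun k => g * x k * g⁻¹) w = g * evalW x w * g⁻¹ := by
  have := map_evalW (MulAut.conj g).toMonoidHom x w
  simp only [MulEquiv.coe_toMonoidHom, MulAut.conj_apply] at this
  exact this.symm

/-- the value of a word depends only on the values of its letters. -/
theorem evalW_congr (x y : ℕ → G) (w : Word) (h : ∀ l ∈ w, x l.1 = y l.1) :
    evalW x w = evalW y w := by
  induction w with
  | nil => rfl
  | cons l w ih =>
    rw [evalW_cons, evalW_cons, ih (fun m hm => h m (List.mem_cons_of_mem _ hm))]
    congr 1
    unfold evalL
    rw [h l List.mem_cons_self]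

/-- the value of a word lies in a subgroup containing the values of its letters. -/
theorem evalW_mem (S : Subgroup G) (x : ℕ → G) (w : Word) (h : ∀ l ∈ w, x l.1 ∈ S) :
    evalW x w ∈ S := by
  induction w with
  | nil => exact S.one_mem
  | cons l w ih =>
    rw [evalW_cons]
    refine S.mul_mem ?_ (ih (fun m hm => h m (List.mem_cons_of_mem _ hm)))
    unfold evalL
    split
    · exact h l List.mem_cons_self
    · exact S.inv_mem (h l List.mem_cons_self)

end Eval

end Cfsg.Agent.Helper3.M23W
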