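import Cfsg.Agent.Helper3.M23W.Lin
import Cfsg.Agent.Helper3.M23W.Words

set_option autoImplicit false

/-!
An extension by an elementary abelian group of order `2 ^ 11` whose elements carry masks, with
lifts of generators acting through matrices: the masks of products of conjugates of relators, of
the change of the lifts, and of the conjugation by a further element.
-/

namespace Cfsg.Agent.Helper3.M23W

/-- the matrix of the action of a word, from the matrices of the letters. -/
def matW (MG : ℕ → List ℕ) : Word → List ℕ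
  | [] => idM
  | l :: w => mulM (MG l.1) (matW MG w)

/-- a conjugator, the index of a relator and its sign. -/
abbrev CR := Word × ℕ × Bool

/-- the product of the conjugates `v⁻¹ r v`. -/
def expand (RW : ℕ → Word) : List CR → Word
  | [] => []
  | c :: L => winv c.1 ++ ((if c.2.2 = true then RW c.2.1 else winv (RW c.2.1)) ++
      (c.1 ++ expand RW L))

/-- the form of the mask of a product of conjugates of relators. -/
def formCR (MG : ℕ → List ℕ) : List CR → Form
  | [] => []
  | c :: L => (matW MG (winv c.1), c.2.1) :: formCR MG L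

/-- the form of the change of a word when the letters are multiplied on the left by elements of
the kernel, the variable of the letter `k` being `off + k`. -/
def foxAux (MG : ℕ → List ℕ) (off : ℕ) : List ℕ → Word → Form
  | _, [] => []
  | P, l :: w => (if l.2 = true then (P, off + l.1) else (mulM P (MG l.1), off + l.1)) ::
      foxAux MG off (mulM P (MG l.1)) w

/-- the data of the extension. -/
structure Ctx (E : Type*) [Group E] (MG : ℕ → List ℕ) where
  N : Subgroup E
  nN : N.Normal
  Ψ : E → ℕ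
  Ψ_mul : ∀ a ∈ N, ∀ b ∈ N, Ψ (a * b) = Ψ a ^^^ Ψ b
  Ψ_inj : ∀ a ∈ N, Ψ a = 0 → a = 1
  Ψ_lt : ∀ a ∈ N, Ψ a < 2048
  x : ℕ → E
  act : ∀ k, ∀ n ∈ N, Ψ (x k * n * (x k)⁻¹) = applyM (MG k) (Ψ n)
  act' : ∀ k, ∀ n ∈ N, Ψ ((x k)⁻¹ * n * x k) = applyM (MG k) (Ψ n)

namespace Ctx

variable {E : Type*} [Group E] {MG : ℕ → List ℕ} (C : Ctx E MG)

theorem Ψ_one : C.Ψ 1 = 0 := by
  have h := C.Ψ_mul 1 C.N.one_mem 1 C.N.one_mem
  rw [mul_one] at h
  have h2 : C.Ψ 1 ^^^ C.Ψ 1 = 0 := Nat.xor_self _
  rw [h2] at h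
  exact h

theorem sq_N {a : E} (ha : a ∈ C.N) : a * a = 1 := by
  apply C.Ψ_inj _ (C.N.mul_mem ha ha)
  rw [C.Ψ_mul a ha a ha, Nat.xor_self]

theorem inv_N {a : E} (ha : a ∈ C.N) : a⁻¹ = a := inv_eq_of_mul_eq_one_left (C.sq_N ha)

theorem eq_of_Ψ {a b : E} (ha : a ∈ C.N) (hb : b ∈ C.N) (h : C.Ψ a = C.Ψ b) : a = b := by
  have h1 : a * b = 1 := by
    apply C.Ψ_inj _ (C.N.mul_mem ha hb)
    rw [C.Ψ_mul a ha b hb, h, Nat.xor_self]
  have h2 : a = b⁻¹ := eq_inv_of_mul_eq_one_left h1
  rw [h2, C.inv_N hb]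

theorem conj_mem {a : E} (ha : a ∈ C.N) (g : E) : g * a * g⁻¹ ∈ C.N := C.nN.conj_mem a ha g

/-- conjugation by `p` acts on the masks through the matrix `P`. -/
def HasMat (p : E) (P : List ℕ) : Prop := ∀ n ∈ C.N, C.Ψ (p * n * p⁻¹) = applyM P (C.Ψ n)

theorem hasMat_one : C.HasMat 1 idM := by
  intro n hn
  rw [one_mul, inv_one, mul_one, applyM_idM (C.Ψ_lt n hn)]

theorem HasMat.mul {p q : E} {P Q : List ℕ} (hp : C.HasMat p P) (hq : C.HasMat q Q) :
    C.HasMat (p * q) (mulM P Q) := by
  intro n hn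
  have e : p * q * n * (p * q)⁻¹ = p * (q * n * q⁻¹) * p⁻¹ := by group
  rw [e, hp _ (C.conj_mem hn q), hq n hn, applyM_mulM]

theorem hasMat_letter (l : Letter) : C.HasMat (evalL C.x l) (MG l.1) := by
  intro n hn
  unfold evalL
  split
  · exact C.act l.1 n hn
  · rw [inv_inv]
    exact C.act' l.1 n hn

theorem hasMat_evalW (w : Word) : C.HasMat (evalW C.x w) (matW MG w) := by
  induction w with
  | nil => exact C.hasMat_one
  | cons l w ih => exact (C.hasMat_letter l).mul C ih

/-- the masks of the relators. -/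
def tval (RW : ℕ → Word) (r : ℕ) : ℕ := C.Ψ (evalW C.x (RW r))

/-- the mask of a product of conjugates of relators. -/
theorem evalCR (RW : ℕ → Word) (hrel : ∀ r, evalW C.x (RW r) ∈ C.N) (L : List CR) :
    evalW C.x (expand RW L) ∈ C.N ∧
      C.Ψ (evalW C.x (expand RW L)) = evalF (C.tval RW) (formCR MG L) := by
  induction L with
  | nil =>
    refine ⟨C.N.one_mem, ?_⟩
    exact C.Ψ_one
  | cons c L ih =>
    obtain ⟨v, r, s⟩ := c
    have hR : evalW C.x (if s = true then RW r else winv (RW r)) = evalW C.x (RW r) := by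
      cases s
      · simp only [Bool.false_eq_true, if_false]
        rw [evalW_winv, C.inv_N (hrel r)]
      · simp
    have e : evalW C.x (expand RW ((v, r, s) :: L))
        = (evalW C.x (winv v) * evalW C.x (RW r) * (evalW C.x (winv v))⁻¹)
          * evalW C.x (expand RW L) := by
      simp only [expand, evalW_append, hR]
      rw [evalW_winv]
      group
    have hm : evalW C.x (winv v) * evalW C.x (RW r) * (evalW C.x (winv v))⁻¹ ∈ C.N :=
      C.conj_mem (hrel r) _
    rw [e]
    refine ⟨C.N.mul_mem hm ih.1, ?_⟩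
    rw [C.Ψ_mul _ hm _ ih.1, ih.2, C.hasMat_evalW (winv v) _ (hrel r)]
    rfl

/-- an identity among the relators gives a linear relation between their masks. -/
theorem identity (RW : ℕ → Word) (hrel : ∀ r, evalW C.x (RW r) ∈ C.N) {LA LB : List CR}
    (h : red (expand RW LA) = red (expand RW LB)) :
    evalF (C.tval RW) (formCR MG LA ++ formCR MG LB) = 0 := by
  rw [evalF_append, ← (C.evalCR RW hrel LA).2, ← (C.evalCR RW hrel LB).2,
    evalW_eq_of_red C.x h, Nat.xor_self]

/-- the change of the value of a word when the lifts are multiplied by elements of the kernel. -/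
theorem fox (μ : ℕ → E) (hμ : ∀ k, μ k ∈ C.N) (off : ℕ) (val : ℕ → ℕ) (w : Word)
    (hval : ∀ l ∈ w, val (off + l.1) = C.Ψ (μ l.1)) :
    ∀ (p : E) (P : List ℕ), C.HasMat p P →
      ∃ n ∈ C.N, p * evalW (fun k => μ k * C.x k) w = n * (p * evalW C.x w) ∧
        C.Ψ n = evalF val (foxAux MG off P w) := by
  induction w with
  | nil =>
    intro p P _
    refine ⟨1, C.N.one_mem, by simp [evalW], ?_⟩
    rw [C.Ψ_one]
    rfl
  | cons l w ih =>
    intro p P hp
    have hvl : val (off + l.1) = C.Ψ (μ l.1) := hval l List.mem_cons_self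
    have ih := ih (fun m hm => hval m (List.mem_cons_of_mem _ hm))
    obtain ⟨k, s⟩ := l
    cases s
    · -- inverse letter
      have hp' : C.HasMat (p * (C.x k)⁻¹) (mulM P (MG k)) :=
        hp.mul C (C.hasMat_letter (k, false))
      obtain ⟨n', hn', e', f'⟩ := ih (p * (C.x k)⁻¹) (mulM P (MG k)) hp'
      refine ⟨(p * (C.x k)⁻¹) * μ k * (p * (C.x k)⁻¹)⁻¹ * n',
        C.N.mul_mem (C.conj_mem (hμ k) _) hn', ?_, ?_⟩
      · have h1 : evalL (fun k => μ k * C.x k) (k, false) = (C.x k)⁻¹ * μ k := by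
          simp only [evalL, Bool.false_eq_true, if_false, mul_inv_rev]
          rw [C.inv_N (hμ k)]
        have h2 : evalL C.x (k, false) = (C.x k)⁻¹ := by
          simp [evalL]
        rw [evalW_cons, evalW_cons, h1, h2]
        calc p * ((C.x k)⁻¹ * μ k * evalW (fun k => μ k * C.x k) w)
            = (p * (C.x k)⁻¹) * μ k * (p * (C.x k)⁻¹)⁻¹
              * ((p * (C.x k)⁻¹) * evalW (fun k => μ k * C.x k) w) := by group
          _ = (p * (C.x k)⁻¹) * μ k * (p * (C.x k)⁻¹)⁻¹ * (n' * (p * (C.x k)⁻¹ * evalW C.x w)) := by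
              rw [e']
          _ = (p * (C.x k)⁻¹) * μ k * (p * (C.x k)⁻¹)⁻¹ * n' * (p * ((C.x k)⁻¹ * evalW C.x w)) := by
              group
      · rw [C.Ψ_mul _ (C.conj_mem (hμ k) _) _ hn', hp' _ (hμ k), f']
        simp only [foxAux, Bool.false_eq_true, if_false, evalF]
        rw [hvl]
    · -- letter
      have hp' : C.HasMat (p * C.x k) (mulM P (MG k)) := hp.mul C (C.hasMat_letter (k, true))
      obtain ⟨n', hn', e', f'⟩ := ih (p * C.x k) (mulM P (MG k)) hp'
      refine ⟨p * μ k * p⁻¹ * n', C.N.mul_mem (C.conj_mem (hμ k) _) hn', ?_, ?_⟩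
      · have h1 : evalL (fun k => μ k * C.x k) (k, true) = μ k * C.x k := by simp [evalL]
        have h2 : evalL C.x (k, true) = C.x k := by simp [evalL]
        rw [evalW_cons, evalW_cons, h1, h2]
        calc p * (μ k * C.x k * evalW (fun k => μ k * C.x k) w)
            = p * μ k * p⁻¹ * ((p * C.x k) * evalW (fun k => μ k * C.x k) w) := by group
          _ = p * μ k * p⁻¹ * (n' * (p * C.x k * evalW C.x w)) := by rw [e']
          _ = p * μ k * p⁻¹ * n' * (p * (C.x k * evalW C.x w)) := by group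
      · rw [C.Ψ_mul _ (C.conj_mem (hμ k) _) _ hn', hp _ (hμ k), f']
        simp only [foxAux, if_true, evalF]
        rw [hvl]

/-- the mask of a relator at the changed lifts. -/
theorem fox_rel (RW : ℕ → Word) (hrel : ∀ r, evalW C.x (RW r) ∈ C.N) (μ : ℕ → E)
    (hμ : ∀ k, μ k ∈ C.N) (off : ℕ) (val : ℕ → ℕ) (r : ℕ)
    (hval : ∀ l ∈ RW r, val (off + l.1) = C.Ψ (μ l.1)) :
    evalW (fun k => μ k * C.x k) (RW r) ∈ C.N ∧
      C.Ψ (evalW (fun k => μ k * C.x k) (RW r))
        = evalF val (foxAux MG off idM (RW r)) ^^^ C.tval RW r := by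
  obtain ⟨n, hn, e, f⟩ := C.fox μ hμ off val (RW r) hval 1 idM C.hasMat_one
  rw [one_mul, one_mul] at e
  rw [e]
  refine ⟨C.N.mul_mem hn (hrel r), ?_⟩
  rw [C.Ψ_mul n hn _ (hrel r), f]
  rfl

/-- the relation coming from the conjugation by a further element `h`: the letters of the list
`K` are conjugated to the words `u k`. -/
theorem stab (RW : ℕ → Word) (hrel : ∀ r, evalW C.x (RW r) ∈ C.N) (h : E) (Mh : List ℕ)
    (hh : C.HasMat h Mh) (u : ℕ → Word) (K : List ℕ)
    (hK : ∀ k ∈ K, h * evalW C.x (u k) * h⁻¹ * (C.x k)⁻¹ ∈ C.N) (nr off : ℕ)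
    (val : ℕ → ℕ) (hvalt : ∀ r < nr, val r = C.tval RW r)
    (hvalν : ∀ k ∈ K, val (off + k) = C.Ψ (h * evalW C.x (u k) * h⁻¹ * (C.x k)⁻¹))
    (r : ℕ) (hr : ∀ l ∈ RW r, l.1 ∈ K) (hroff : r < nr) (L : List CR)
    (hLr : ∀ c ∈ L, c.2.1 < nr)
    (hL : red (substW u (RW r)) = red (expand RW L)) :
    evalF val (smulF Mh (formCR MG L) ++ (foxAux MG off idM (RW r) ++ [(idM, r)])) = 0 := by
  classical
  -- the kernel elements
  let ν : ℕ → E := fun k => if k ∈ K then h * evalW C.x (u k) * h⁻¹ * (C.x k)⁻¹ else 1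
  have hν : ∀ k, ν k ∈ C.N := by
    intro k
    show (if k ∈ K then _ else _) ∈ C.N
    split
    · next hk => exact hK k hk
    · exact C.N.one_mem
  -- a valuation agreeing with `val` on the variables met
  let val' : ℕ → ℕ := fun v => if v < off then val v else C.Ψ (ν (v - off))
  have hval' : ∀ k, val' (off + k) = C.Ψ (ν k) := by
    intro k
    show (if off + k < off then _ else _) = _
    rw [if_neg (by omega), Nat.add_sub_cancel_left]
  obtain ⟨h1, h2⟩ := C.fox_rel RW hrel ν hν off val' r (fun l _ => hval' l.1)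
  -- the conjugate of the substituted relator
  have e1 : h * evalW C.x (substW u (RW r)) * h⁻¹ = evalW (fun k => ν k * C.x k) (RW r) := by
    rw [evalW_substW, ← evalW_conj]
    apply evalW_congr
    intro l hl
    show h * evalW C.x (u l.1) * h⁻¹ = (if l.1 ∈ K then _ else _) * C.x l.1
    rw [if_pos (hr l hl)]
    group
  obtain ⟨m1, m2⟩ := C.evalCR RW hrel L
  rw [evalW_eq_of_red C.x hL] at e1
  have e2 : C.Ψ (h * evalW C.x (expand RW L) * h⁻¹) = applyM Mh (evalF (C.tval RW) (formCR MG L)) := by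
    rw [hh _ m1, m2]
  rw [e1, h2] at e2
  -- the forms only meet variables on which the valuations agree
  have a1 : evalF val (formCR MG L) = evalF (C.tval RW) (formCR MG L) := by
    apply evalF_congr_vars
    have : ∀ (L' : List CR), (∀ c ∈ L', c.2.1 < nr) → ∀ p ∈ formCR MG L', p.2 < nr := by
      intro L'
      induction L' with
      | nil => intro _ p hp; simp [formCR] at hp
      | cons c L' ih =>
        intro hc p hp
        simp only [formCR, List.mem_cons] at hp
        rcases hp with hp | hp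
        · rw [hp]
          exact hc c List.mem_cons_self
        · exact ih (fun d hd => hc d (List.mem_cons_of_mem _ hd)) p hp
    intro p hp
    exact hvalt p.2 (this L hLr p hp)
  have a2 : ∀ (P : List ℕ) (w : Word), (∀ l ∈ w, l.1 ∈ K) →
      evalF val (foxAux MG off P w) = evalF val' (foxAux MG off P w) := by
    intro P w
    induction w generalizing P with
    | nil => intro _; rfl
    | cons l w ih =>
      intro hw
      have hl : l.1 ∈ K := hw l List.mem_cons_self
      have hv : val (off + l.1) = val' (off + l.1) := by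
        rw [hval', hvalν l.1 hl]
        show _ = C.Ψ (if l.1 ∈ K then _ else _)
        rw [if_pos hl]
      simp only [foxAux, evalF]
      rw [ih _ (fun m hm => hw m (List.mem_cons_of_mem _ hm))]
      split <;> simp only [hv]
  rw [evalF_append, evalF_append, evalF_smulF, a1, a2 idM (RW r) hr, ← e2]
  simp only [evalF]
  have ht : applyM idM (C.tval RW r) = C.tval RW r := applyM_idM (C.Ψ_lt _ (hrel r))
  rw [hvalt r hroff, ht, Nat.xor_zero, Nat.xor_self]

end Ctx

end Cfsg.Agent.Helper3.M23W
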