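import Cfsg.Agent.Helper3.M23W.Build

set_option autoImplicit false

/-!
The extension data from a normal subgroup, an isomorphism of the quotient onto the point stabilizer
and a surjective homomorphism from the binary words onto the normal subgroup.
-/

namespace Cfsg.Agent.Helper3.M23W

open Cfsg Cfsg.Agent.Helper9.Golay

/-- the extension data. -/
def ExtV.ofHyp {E : Type*} [Group E] (N : Subgroup E) [hN : N.Normal]
    (φ : E ⧸ N ≃* ↥Cfsg.Spor.M23) (θ : (Cfsg.GolayPt → ZMod 2) →+ Additive ↥N)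
    (hsurj : Function.Surjective θ)
    (hker : ∀ w : Cfsg.GolayPt → ZMod 2,
      θ w = 0 ↔ (w ∈ Cfsg.golayCode ∨ w + Pi.single none 1 ∈ Cfsg.golayCode))
    (hθ : ∀ (g : E) (w : Cfsg.GolayPt → ZMod 2),
      ((θ (w ∘ ⇑(((φ (QuotientGroup.mk g) : ↥Cfsg.Spor.M23) :
        Equiv.Perm Cfsg.GolayPt)⁻¹))).toMul : E) = g * ((θ w).toMul : E) * g⁻¹) : ExtV E where
  N := N
  nN := hN
  π := (Subgroup.subtype Cfsg.Spor.M23).comp (φ.toMonoidHom.comp (QuotientGroup.mk' N))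
  mem_N := by
    intro x
    show x ∈ N ↔ ((φ (QuotientGroup.mk x) : ↥Cfsg.Spor.M23) : Equiv.Perm GolayPt) = 1
    constructor
    · intro hx
      have : (QuotientGroup.mk x : E ⧸ N) = 1 := (QuotientGroup.eq_one_iff x).2 hx
      rw [this, map_one]
      rfl
    · intro hx
      have h1 : φ (QuotientGroup.mk x) = 1 := Subtype.ext hx
      have h2 : (QuotientGroup.mk x : E ⧸ N) = 1 := by
        have := congrArg φ.symm h1
        rwa [MulEquiv.symm_apply_apply, map_one] at this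
      exact (QuotientGroup.eq_one_iff x).1 h2
  lift := by
    intro g hg
    obtain ⟨x, hx⟩ := QuotientGroup.mk_surjective (φ.symm ⟨g, hg⟩)
    refine ⟨x, ?_⟩
    show ((φ (QuotientGroup.mk x) : ↥Cfsg.Spor.M23) : Equiv.Perm GolayPt) = g
    rw [hx, MulEquiv.apply_symm_apply]
  π_mem := fun x => (φ (QuotientGroup.mk x)).2
  θ := fun w => ((θ w).toMul : E)
  θ_mem := fun w => (θ w).toMul.2
  θ_add := fun w w' => by
    rw [map_add]
    rfl
  θ_surj := fun n hn => by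
    obtain ⟨w, hw⟩ := hsurj (Additive.ofMul ⟨n, hn⟩)
    exact ⟨w, by rw [hw]; rfl⟩
  θ_ker := fun w => Iff.trans
    ⟨fun h => Additive.toMul.injective (Subtype.ext h), fun h => by rw [h]; rfl⟩ (hker w)
  θ_conj := fun g w => hθ g w

theorem ExtV.ofHyp_N {E : Type*} [Group E] (N : Subgroup E) [hN : N.Normal]
    (φ : E ⧸ N ≃* ↥Cfsg.Spor.M23) (θ : (Cfsg.GolayPt → ZMod 2) →+ Additive ↥N)
    (hsurj : Function.Surjective θ)
    (hker : ∀ w : Cfsg.GolayPt → ZMod 2,
      θ w = 0 ↔ (w ∈ Cfsg.golayCode ∨ w + Pi.single none 1 ∈ Cfsg.golayCode))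
    (hθ : ∀ (g : E) (w : Cfsg.GolayPt → ZMod 2),
      ((θ (w ∘ ⇑(((φ (QuotientGroup.mk g) : ↥Cfsg.Spor.M23) :
        Equiv.Perm Cfsg.GolayPt)⁻¹))).toMul : E) = g * ((θ w).toMul : E) * g⁻¹) :
    (ExtV.ofHyp N φ θ hsurj hker hθ).N = N := rfl

end Cfsg.Agent.Helper3.M23W
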