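import Mathlib

set_option autoImplicit false

/-!
Linear maps on bit masks given by the list of the images of the basis vectors, linear forms with
such coefficients, and the comparison of two forms through their coefficients.
-/

namespace Cfsg.Agent.Helper3.M23W

/-- the sum of the columns of `M` selected by the bits of `x` from position `i` on. -/
def applyAux : List ℕ → ℕ → ℕ → ℕ
  | [], _, _ => 0
  | c :: M, x, i => (if x.testBit i then c else 0) ^^^ applyAux M x (i + 1)

/-- the image of the mask `x` under the matrix with columns `M`. -/
def applyM (M : List ℕ) (x : ℕ) : ℕ := applyAux M x 0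

theorem ite_bxor (b1 b2 : Bool) (c : ℕ) :
    (if (b1 ^^ b2) = true then c else 0)
      = (if b1 = true then c else 0) ^^^ (if b2 = true then c else 0) := by
  cases b1 <;> cases b2 <;> simp

theorem applyAux_xor (M : List ℕ) (x y i : ℕ) :
    applyAux M (x ^^^ y) i = applyAux M x i ^^^ applyAux M y i := by
  induction M generalizing i with
  | nil => simp [applyAux]
  | cons c M ih =>
    simp only [applyAux]
    rw [Nat.testBit_xor, ite_bxor, ih]
    ac_rfl

theorem applyM_xor (M : List ℕ) (x y : ℕ) : applyM M (x ^^^ y) = applyM M x ^^^ applyM M y :=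
  applyAux_xor M x y 0

theorem applyAux_zero (M : List ℕ) (i : ℕ) : applyAux M 0 i = 0 := by
  induction M generalizing i with
  | nil => rfl
  | cons c M ih => simp [applyAux, ih]

theorem applyM_zero (M : List ℕ) : applyM M 0 = 0 := applyAux_zero M 0

theorem applyM_ite (A : List ℕ) (b : Bool) (c : ℕ) :
    applyM A (if b = true then c else 0) = if b = true then applyM A c else 0 := by
  cases b
  · simp [applyM_zero]
  · simp

/-- the product of two matrices. -/
def mulM (A B : List ℕ) : List ℕ := B.map (applyM A)

theorem applyAux_mulM (A B : List ℕ) (x i : ℕ) :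
    applyAux (mulM A B) x i = applyM A (applyAux B x i) := by
  induction B generalizing i with
  | nil => simp [mulM, applyAux, applyM_zero]
  | cons c B ih =>
    have e : mulM A (c :: B) = applyM A c :: mulM A B := rfl
    rw [e]
    simp only [applyAux]
    rw [applyM_xor, applyM_ite, ih]

theorem applyM_mulM (A B : List ℕ) (x : ℕ) : applyM (mulM A B) x = applyM A (applyM B x) :=
  applyAux_mulM A B x 0

/-- the sum of two matrices, the shorter one completed by zeros. -/
def xorL : List ℕ → List ℕ → List ℕ
  | [], B => B
  | a :: A, [] => a :: A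
  | a :: A, b :: B => (a ^^^ b) :: xorL A B

theorem ite_xor_val (t : Bool) (a b : ℕ) :
    (if t = true then a ^^^ b else 0) = (if t = true then a else 0) ^^^ (if t = true then b else 0) := by
  cases t <;> simp

theorem applyAux_xorL (A B : List ℕ) (x i : ℕ) :
    applyAux (xorL A B) x i = applyAux A x i ^^^ applyAux B x i := by
  induction A generalizing B i with
  | nil => simp [xorL, applyAux]
  | cons a A ih =>
    cases B with
    | nil => simp [xorL, applyAux]
    | cons b B =>
      simp only [xorL, applyAux]
      rw [ite_xor_val, ih]
      ac_rfl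

theorem applyM_xorL (A B : List ℕ) (x : ℕ) : applyM (xorL A B) x = applyM A x ^^^ applyM B x :=
  applyAux_xorL A B x 0

/-- the identity matrix. -/
def idM : List ℕ := [1, 2, 4, 8, 16, 32, 64, 128, 256, 512, 1024]

/-- the zero matrix. -/
def zeroM : List ℕ := [0, 0, 0, 0, 0, 0, 0, 0, 0, 0, 0]

theorem applyM_idM_all : (List.range 2048).all (fun x => applyM idM x == x) = true := by
  decide +kernel

theorem applyM_idM {x : ℕ} (hx : x < 2048) : applyM idM x = x := by
  have := List.all_eq_true.1 applyM_idM_all x (List.mem_range.2 hx)
  rwa [beq_iff_eq] at this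

theorem applyAux_zeroM' (n x i : ℕ) : applyAux (List.replicate n 0) x i = 0 := by
  induction n generalizing i with
  | zero => rfl
  | succ n ih =>
    rw [List.replicate_succ]
    simp [applyAux, ih]

theorem applyM_zeroM (x : ℕ) : applyM zeroM x = 0 := applyAux_zeroM' 11 x 0

/-- all columns are masks of eleven bits. -/
def okM (M : List ℕ) : Bool := M.all (fun c => decide (c < 2048))

theorem applyAux_lt {M : List ℕ} (h : okM M = true) (x i : ℕ) : applyAux M x i < 2048 := by
  induction M generalizing i with
  | nil => simp [applyAux]
  | cons c M ih =>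
    unfold okM at h
    rw [List.all_cons, Bool.and_eq_true, decide_eq_true_eq] at h
    simp only [applyAux]
    have h1 : (if x.testBit i = true then c else 0) < 2 ^ 11 := by
      split
      · exact h.1
      · norm_num
    have h2 : applyAux M x (i + 1) < 2 ^ 11 := ih h.2 (i + 1)
    exact Nat.xor_lt_two_pow h1 h2

theorem applyM_lt {M : List ℕ} (h : okM M = true) (x : ℕ) : applyM M x < 2048 := applyAux_lt h x 0

/-- a linear form: a list of terms, each a matrix applied to the variable with an index. -/
abbrev Form := List (List ℕ × ℕ)

/-- the value of a form. -/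
def evalF (val : ℕ → ℕ) : Form → ℕ
  | [] => 0
  | p :: f => applyM p.1 (val p.2) ^^^ evalF val f

theorem evalF_append (val : ℕ → ℕ) (f g : Form) :
    evalF val (f ++ g) = evalF val f ^^^ evalF val g := by
  induction f with
  | nil => simp [evalF]
  | cons p f ih =>
    simp only [List.cons_append, evalF, ih]
    ac_rfl

/-- a form multiplied by a matrix. -/
def smulF (A : List ℕ) (f : Form) : Form := f.map (fun p => (mulM A p.1, p.2))

theorem evalF_smulF (val : ℕ → ℕ) (A : List ℕ) (f : Form) :
    evalF val (smulF A f) = applyM A (evalF val f) := by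
  induction f with
  | nil => simp [smulF, evalF, applyM_zero]
  | cons p f ih =>
    have e : smulF A (p :: f) = (mulM A p.1, p.2) :: smulF A f := rfl
    rw [e]
    simp only [evalF]
    rw [ih, applyM_xor, applyM_mulM]

/-- the coefficient of a variable in a form. -/
def coef : Form → ℕ → List ℕ
  | [], _ => []
  | p :: f, v => if p.2 = v then xorL p.1 (coef f v) else coef f v

/-- the value of a form computed through its coefficients, for the variables below `nv`. -/
def evalC (val : ℕ → ℕ) (f : Form) : ℕ → ℕ
  | 0 => 0
  | nv + 1 => applyM (coef f nv) (val nv) ^^^ evalC val f nv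

theorem applyM_nil (x : ℕ) : applyM [] x = 0 := rfl

theorem evalC_nil (val : ℕ → ℕ) (nv : ℕ) : evalC val [] nv = 0 := by
  induction nv with
  | zero => rfl
  | succ nv ih => simp [evalC, coef, applyM_nil, ih]

theorem evalC_cons_of_le (val : ℕ → ℕ) (p : List ℕ × ℕ) (f : Form) (nv : ℕ) (h : nv ≤ p.2) :
    evalC val (p :: f) nv = evalC val f nv := by
  induction nv with
  | zero => rfl
  | succ nv ih =>
    have h1 : p.2 ≠ nv := by omega
    simp only [evalC, coef, if_neg h1]
    rw [ih (by omega)]

theorem evalC_cons_of_lt (val : ℕ → ℕ) (p : List ℕ × ℕ) (f : Form) (nv : ℕ) (h : p.2 < nv) :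
    evalC val (p :: f) nv = applyM p.1 (val p.2) ^^^ evalC val f nv := by
  induction nv with
  | zero => omega
  | succ nv ih =>
    by_cases h1 : p.2 = nv
    · simp only [evalC, coef, if_pos h1]
      rw [applyM_xorL, evalC_cons_of_le val p f nv (by omega), h1]
      ac_rfl
    · simp only [evalC, coef, if_neg h1]
      rw [ih (by omega)]
      ac_rfl

/-- all variables of the form are below `nv`. -/
def varsLt (f : Form) (nv : ℕ) : Bool := f.all (fun p => decide (p.2 < nv))

theorem evalF_eq_evalC (val : ℕ → ℕ) (f : Form) (nv : ℕ) (h : varsLt f nv = true) :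
    evalF val f = evalC val f nv := by
  induction f with
  | nil => rw [evalC_nil]; rfl
  | cons p f ih =>
    unfold varsLt at h
    rw [List.all_cons, Bool.and_eq_true, decide_eq_true_eq] at h
    rw [evalC_cons_of_lt val p f nv h.1]
    simp only [evalF]
    rw [ih h.2]

theorem evalC_congr (val : ℕ → ℕ) (f g : Form) (nv : ℕ)
    (h : ∀ v < nv, coef f v = coef g v) : evalC val f nv = evalC val g nv := by
  induction nv with
  | zero => rfl
  | succ nv ih =>
    simp only [evalC]
    rw [h nv (by omega), ih (fun v hv => h v (by omega))]

/-- the check that two forms have the same coefficients. -/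
def sameCoef (f g : Form) (nv : ℕ) : Bool :=
  varsLt f nv && varsLt g nv && (List.range nv).all (fun v => coef f v == coef g v)

theorem evalF_eq_of_sameCoef (val : ℕ → ℕ) {f g : Form} {nv : ℕ} (h : sameCoef f g nv = true) :
    evalF val f = evalF val g := by
  unfold sameCoef at h
  rw [Bool.and_eq_true, Bool.and_eq_true, List.all_eq_true] at h
  rw [evalF_eq_evalC val f nv h.1.1, evalF_eq_evalC val g nv h.1.2]
  apply evalC_congr
  intro v hv
  have := h.2 v (List.mem_range.2 hv)
  rwa [beq_iff_eq] at this

/-- the form with the zero matrix for every variable below `nv`. -/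
def zeroF (nv : ℕ) : Form := (List.range nv).map (fun v => (zeroM, v))

theorem evalF_zeroF (val : ℕ → ℕ) (nv : ℕ) : evalF val (zeroF nv) = 0 := by
  unfold zeroF
  induction (List.range nv) with
  | nil => rfl
  | cons a l ih =>
    simp only [List.map_cons, evalF, applyM_zeroM, ih]
    rfl

/-- a combination of forms with matrix coefficients. -/
def combF : List (List ℕ × Form) → Form
  | [] => []
  | p :: l => smulF p.1 p.2 ++ combF l

theorem evalF_combF (val : ℕ → ℕ) (l : List (List ℕ × Form))
    (h : ∀ p ∈ l, evalF val p.2 = 0) : evalF val (combF l) = 0 := by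
  induction l with
  | nil => rfl
  | cons p l ih =>
    simp only [combF]
    rw [evalF_append, evalF_smulF, h p (List.mem_cons_self), applyM_zero,
      ih (fun q hq => h q (List.mem_cons_of_mem _ hq))]
    rfl

theorem evalF_congr_vars (val val' : ℕ → ℕ) (f : Form) (h : ∀ p ∈ f, val p.2 = val' p.2) :
    evalF val f = evalF val' f := by
  induction f with
  | nil => rfl
  | cons p f ih =>
    simp only [evalF]
    rw [h p List.mem_cons_self, ih (fun q hq => h q (List.mem_cons_of_mem _ hq))]

end Cfsg.Agent.Helper3.M23W
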