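import Cfsg.Agent.Helper3.PkF
import Cfsg.Agent.Helper3.M23W.Lin
import Cfsg.Agent.Helper9.Golay.Tbl

set_option autoImplicit false

/-!
The quotient of the binary words on the 24 points by the code and the unit vector at the extra
point, in coordinates dual to the basis of the words of the code vanishing at the extra point; the
interface of an extension of the point stabilizer by this quotient.
-/

namespace Cfsg.Agent.Helper3.M23W

open Cfsg Cfsg.Agent.Helper9.Golay Cfsg.Agent.Helper3.Pk

/-- the class of the unit vector at the point with index `i`. -/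
def ptSyn (i : ℕ) : ℕ := Nat.ofBits (fun k : Fin 11 => (bmask k).testBit i)

/-- the class of a word. -/
def synV (w : V) : ℕ := Nat.ofBits (fun k : Fin 11 => decide (dotv w (bs k) = 1))

/-- the check that the matrix `M` is the action of the permutation with table `t`. -/
def chkMat (t M : List ℕ) : Bool :=
  (List.range 24).all (fun i => ptSyn (t.getD i 0) == applyM M (ptSyn i))

theorem synV_lt (w : V) : synV w < 2048 := by
  have := Nat.ofBits_lt_two_pow (fun k : Fin 11 => decide (dotv w (bs k) = 1))
  simpa [synV] using this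

theorem testBit_synV (w : V) (k : Fin 11) :
    (synV w).testBit k.val = decide (dotv w (bs k) = 1) := by
  unfold synV
  rw [Nat.testBit_ofBits_lt _ _ k.2]

theorem testBit_synV_ge (w : V) {i : ℕ} (h : 11 ≤ i) : (synV w).testBit i = false := by
  unfold synV
  exact Nat.testBit_ofBits_ge _ _ h

theorem z2_dec_add : ∀ a b : ZMod 2,
    decide (a + b = 1) = (decide (a = 1) ^^ decide (b = 1)) := by decide

theorem synV_add (w w' : V) : synV (w + w') = synV w ^^^ synV w' := by
  apply Nat.eq_of_testBit_eq
  intro i
  rw [Nat.testBit_xor]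
  by_cases h : i < 11
  · have e1 := testBit_synV (w + w') ⟨i, h⟩
    have e2 := testBit_synV w ⟨i, h⟩
    have e3 := testBit_synV w' ⟨i, h⟩
    simp only at e1 e2 e3
    rw [e1, e2, e3, dotv_add_left, z2_dec_add]
  · have h' : 11 ≤ i := by omega
    rw [testBit_synV_ge _ h', testBit_synV_ge _ h', testBit_synV_ge _ h']
    rfl

theorem synV_zero : synV 0 = 0 := by
  apply Nat.eq_of_testBit_eq
  intro i
  rw [Nat.zero_testBit]
  by_cases h : i < 11
  · have e1 := testBit_synV 0 ⟨i, h⟩
    simp only at e1
    rw [e1, dotv_zero_left]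
    decide
  · exact testBit_synV_ge _ (by omega)

theorem synV_eq_zero_iff (w : V) : synV w = 0 ↔ ∀ k, dotv w (bs k) = 0 := by
  constructor
  · intro h k
    have e := testBit_synV w k
    rw [h, Nat.zero_testBit] at e
    have := e.symm
    rw [decide_eq_false_iff_not] at this
    rcases z2_eq_zero_or_one (dotv w (bs k)) with h0 | h1
    · exact h0
    · exact absurd h1 this
  · intro h
    apply Nat.eq_of_testBit_eq
    intro i
    rw [Nat.zero_testBit]
    by_cases hi : i < 11
    · have e1 := testBit_synV w ⟨i, hi⟩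
      simp only at e1
      rw [e1, h]
      decide
    · exact testBit_synV_ge _ (by omega)

theorem dotv_single (p : GolayPt) (d : V) : dotv (Pi.single p 1) d = d p := by
  unfold dotv
  rw [Finset.sum_eq_single p]
  · simp
  · intro q _ hq
    rw [Pi.single_eq_of_ne hq, zero_mul]
  · intro h
    exact absurd (Finset.mem_univ p) h

theorem bs_apply (k : Fin 11) (p : GolayPt) :
    bs k p = if (bmask k).testBit (ptIdx p) then 1 else 0 := by
  unfold bs decW
  rfl

theorem dec_ite (b : Bool) : decide ((if b = true then (1 : ZMod 2) else 0) = 1) = b := by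
  cases b <;> decide

theorem synV_single (p : GolayPt) : synV (Pi.single p 1) = ptSyn (ptIdx p) := by
  have h : (fun k : Fin 11 => decide (dotv (Pi.single p 1) (bs k) = 1))
      = (fun k : Fin 11 => (bmask k).testBit (ptIdx p)) := by
    funext k
    rw [dotv_single, bs_apply, dec_ite]
  unfold synV ptSyn
  rw [h]

/-- induction on the words. -/
theorem V_induction (P : V → Prop) (h0 : P 0) (hs : ∀ w p, P w → P (w + Pi.single p 1)) :
    ∀ w, P w := by
  intro w
  have key : ∀ s : Finset GolayPt, P (∑ p ∈ s, Pi.single p (w p)) := by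
    intro s
    induction s using Finset.induction_on with
    | empty => simpa using h0
    | insert p s hp ih =>
      rw [Finset.sum_insert hp, add_comm]
      rcases z2_eq_zero_or_one (w p) with h | h
      · rw [h, Pi.single_zero, add_zero]
        exact ih
      · rw [h]
        exact hs _ p ih
  have := key Finset.univ
  rwa [Finset.univ_sum_single] at this

theorem single_comp (σ : Equiv.Perm GolayPt) (p : GolayPt) :
    (Pi.single p 1 : V) ∘ ⇑σ⁻¹ = Pi.single (σ p) 1 := by
  funext q
  simp only [Function.comp_apply, Pi.single_apply]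
  by_cases h : q = σ p
  · rw [if_pos h, if_pos]
    rw [h]
    simp
  · rw [if_neg h, if_neg]
    intro h2
    apply h
    rw [← h2]
    simp

/-- the action of a permutation on the classes of the words, through a checked matrix. -/
theorem synV_comp {σ : Equiv.Perm GolayPt} {t M : List ℕ} (ht : IsTbl σ t)
    (hM : chkMat t M = true) (w : V) : synV (w ∘ ⇑σ⁻¹) = applyM M (synV w) := by
  unfold chkMat at hM
  rw [List.all_eq_true] at hM
  induction w using V_induction with
  | h0 =>
    have : (0 : V) ∘ ⇑σ⁻¹ = 0 := rfl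
    rw [this, synV_zero, applyM_zero]
  | hs w p ih =>
    have e : (w + Pi.single p 1) ∘ ⇑σ⁻¹ = w ∘ ⇑σ⁻¹ + (Pi.single p 1 : V) ∘ ⇑σ⁻¹ := rfl
    rw [e, synV_add, synV_add, applyM_xor, ih, single_comp, synV_single, synV_single]
    have h1 := hM (ptIdx p) (List.mem_range.2 (ptIdx_lt p))
    rw [beq_iff_eq, ht.2 p] at h1
    rw [h1]

/-- an extension of the point stabilizer by the quotient, in terms of masks. -/
structure ExtW (E : Type*) [Group E] where
  N : Subgroup E
  nN : N.Normal
  π : E →* Equiv.Perm GolayPt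
  Ψ : E → ℕ
  mem_N : ∀ x, x ∈ N ↔ π x = 1
  lift : ∀ g ∈ Spor.M23, ∃ x, π x = g
  Ψ_mul : ∀ x ∈ N, ∀ y ∈ N, Ψ (x * y) = Ψ x ^^^ Ψ y
  Ψ_conj : ∀ (g x : E) (t M : List ℕ), x ∈ N → IsTbl (π g) t → chkMat t M = true →
    Ψ (g * x * g⁻¹) = applyM M (Ψ x)
  Ψ_inj : ∀ x ∈ N, Ψ x = 0 → x = 1
  Ψ_lt : ∀ x ∈ N, Ψ x < 2048
  Ψ_surj : ∀ m < 2048, ∃ x ∈ N, Ψ x = m

end Cfsg.Agent.Helper3.M23W
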