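import Cfsg.Agent.Helper3.M23Ext.VgLib
import Cfsg.Agent.Helper3.M23W.Iface
import Cfsg.Agent.Helper3.M23W.Eng

set_option autoImplicit false

/-!
Tables of words in involutions, bounds on the values of forms, and the chain of subgroups generated
by the last ones of seven elements.
-/

namespace Cfsg.Agent.Helper3.M23W

open Cfsg Cfsg.Agent.Helper9.Golay Cfsg.Agent.Helper3.M23Ext Subgroup

/-- the table of a word in involutions. -/
def tblW (TG : ℕ → List ℕ) : Word → List ℕ
  | [] => idT
  | l :: w => mulT (TG l.1) (tblW TG w)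

theorem isTbl_evalW {Gp : ℕ → Equiv.Perm GolayPt} {TG : ℕ → List ℕ}
    (h : ∀ k, IsTbl (Gp k) (TG k)) (hi : ∀ k, IsTbl (Gp k)⁻¹ (TG k)) (w : Word) :
    IsTbl (evalW Gp w) (tblW TG w) := by
  induction w with
  | nil => exact isTbl_one
  | cons l w ih =>
    rw [evalW_cons]
    unfold tblW
    refine IsTbl.mul ?_ ih
    unfold evalL
    split
    · exact h l.1
    · exact hi l.1

theorem getD_mem_or {α : Type*} (l : List α) (i : ℕ) (d : α) : l.getD i d ∈ l ∨ l.getD i d = d := by
  by_cases h : i < l.length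
  · left
    rw [List.getD_eq_getElem _ _ h]
    exact List.getElem_mem h
  · right
    exact List.getD_eq_default _ _ (by omega)

theorem applyAux_lt_pow {b : ℕ} {M : List ℕ} (h : ∀ c ∈ M, c < 2 ^ b) (x i : ℕ) :
    applyAux M x i < 2 ^ b := by
  induction M generalizing i with
  | nil => simp [applyAux]
  | cons c M ih =>
    simp only [applyAux]
    have h1 : (if x.testBit i = true then c else 0) < 2 ^ b := by
      split
      · exact h c List.mem_cons_self
      · exact Nat.two_pow_pos b
    have h2 : applyAux M x (i + 1) < 2 ^ b :=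
      ih (fun d hd => h d (List.mem_cons_of_mem _ hd)) (i + 1)
    exact Nat.xor_lt_two_pow h1 h2

theorem evalF_lt_pow {b : ℕ} {f : Form} (h : ∀ p ∈ f, ∀ c ∈ p.1, c < 2 ^ b) (val : ℕ → ℕ) :
    evalF val f < 2 ^ b := by
  induction f with
  | nil => exact Nat.two_pow_pos b
  | cons p f ih =>
    simp only [evalF]
    exact Nat.xor_lt_two_pow (applyAux_lt_pow (h p List.mem_cons_self) _ 0)
      (ih (fun q hq => h q (List.mem_cons_of_mem _ hq)))

theorem evalF_getD_eq_zero (val : ℕ → ℕ) (l : List Form) (h : ∀ f ∈ l, evalF val f = 0) (k : ℕ) :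
    evalF val (l.getD k []) = 0 := by
  rcases getD_mem_or l k [] with h1 | h1
  · exact h _ h1
  · rw [h1]
    rfl

section Chain

variable {E : Type*} [Group E]

/-- the subgroup generated by the last `n` of seven elements. -/
def chainR (x : ℕ → E) : ℕ → Subgroup E
  | 0 => ⊥
  | n + 1 => chainR x n ⊔ zpowers (x (6 - n))

theorem chainR_le {x : ℕ → E} {S : Subgroup E} :
    ∀ n, (∀ l, 7 ≤ l + n → l ≤ 6 → x l ∈ S) → chainR x n ≤ S
  | 0, _ => bot_le
  | n + 1, h => by
    refine sup_le (chainR_le n (fun l h1 h2 => h l (by omega) h2)) ?_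
    rw [zpowers_le]
    exact h (6 - n) (by omega) (by omega)

theorem mem_chainR {x : ℕ → E} : ∀ n l, 7 ≤ l + n → l ≤ 6 → x l ∈ chainR x n
  | 0, l, h1, h2 => by omega
  | n + 1, l, h1, h2 => by
    by_cases h : l = 6 - n
    · rw [h]
      exact (le_sup_right : zpowers (x (6 - n)) ≤ chainR x (n + 1)) (mem_zpowers _)
    · exact (le_sup_left : chainR x n ≤ chainR x (n + 1)) (mem_chainR n l (by omega) h2)

theorem map_chainR {P : Type*} [Group P] (f : E →* P) (x : ℕ → E) :
    ∀ n, (chainR x n).map f = chainR (fun k => f (x k)) n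
  | 0 => Subgroup.map_bot f
  | n + 1 => by
    show (chainR x n ⊔ zpowers (x (6 - n))).map f = chainR (fun k => f (x k)) n ⊔ zpowers (f (x (6 - n)))
    rw [Subgroup.map_sup, map_chainR f x n, MonoidHom.map_zpowers]

end Chain

end Cfsg.Agent.Helper3.M23W
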